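import Mathlib.Data.Rat.Cast.Order
import Mathlib.Algebra.Field.Rat
import Mathlib.Algebra.Order.BigOperators.Ring.Finset
import Mathlib.Algebra.BigOperators.Ring.Finset
import Mathlib.Tactic.Linarith
import Mathlib.Tactic.Ring
import Mathlib.Tactic.FieldSimp
import Mathlib.Tactic.Positivity
import Mathlib.Tactic.NormNum

/-!
# The arithmetic of the exceptional degrees
-/

set_option autoImplicit false

namespace Cfsg.Agent.Lib.ThreeFree.Arith

universe u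

theorem inv_lower {x : ℤ} {k : ℕ} (hk : 0 < k) (hx : x ≤ -(k : ℤ)) :
    -(k : ℚ)⁻¹ ≤ (x : ℚ)⁻¹ := by
  have hk' : (0 : ℚ) < k := by exact_mod_cast hk
  have hx' : (k : ℚ) ≤ ((-x : ℤ) : ℚ) := by exact_mod_cast (show (k : ℤ) ≤ -x by omega)
  have := inv_anti₀ hk' hx'
  push_cast at this
  rw [inv_neg] at this
  linarith

theorem inv_nonneg' {x : ℤ} (hx : 0 < x) : (0 : ℚ) ≤ (x : ℚ)⁻¹ :=
  inv_nonneg.mpr (by exact_mod_cast hx.le)

theorem two_negative {a b c g : ℤ} (ha : a ≤ -8) (hb : b ≤ -8) (hc : 10 ≤ c) (hsum : a + b + c = -6)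
    (ca : a % 9 = 1) (cb : b % 9 = 1) (hg : 360 ≤ g)
    (hsq : 1 + (a * a + b * b + c * c) + 50 ≤ g)
    (heq : 1 + (a : ℚ)⁻¹ + (b : ℚ)⁻¹ + (c : ℚ)⁻¹ - 2 * (5 : ℚ)⁻¹ = 162 / (g : ℚ)) : g = 360 := by
  have hg0 : (g : ℚ) ≠ 0 := by exact_mod_cast (show g ≠ 0 by omega)
  by_cases h : a = -8 ∧ b = -8
  · obtain ⟨rfl, rfl⟩ := h
    obtain rfl : c = 10 := by omega
    norm_num at heq
    field_simp at heq
    have : (g : ℚ) = 360 := by linarith
    exact_mod_cast this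
  exfalso
  obtain ⟨hab, h19⟩ : (a ≤ -17 ∨ b ≤ -17) ∧ 19 ≤ c := by omega
  have i8a := inv_lower (x := a) (k := 8) (by norm_num) (by omega)
  have i8b := inv_lower (x := b) (k := 8) (by norm_num) (by omega)
  have ic := inv_nonneg' (show 0 < c by omega)
  have hge : (700 : ℚ) ≤ g := by
    have h1 : 19 * 19 ≤ c * c := mul_le_mul h19 h19 (by norm_num) (by omega)
    have h2 : 64 ≤ a * a := by nlinarith
    have h3 : 64 ≤ b * b := by nlinarith
    have : (700 : ℤ) ≤ g := by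
      rcases hab with h | h
      · have : 289 ≤ a * a := by nlinarith
        omega
      · have : 289 ≤ b * b := by nlinarith
        omega
    exact_mod_cast this
  have hle : 162 / (g : ℚ) ≤ 162 / 700 := by
    rw [div_le_div_iff₀ (by linarith) (by norm_num)]; linarith
  push_cast at i8a i8b
  linarith

/-- The degrees force the order. -/
theorem order_four {a b c E g : ℤ} (ha : a ≠ 1) (hb : b ≠ 1) (hc : c ≠ 1) (hE : E ≠ 0)
    (ca : a % 9 = 1) (cb : b % 9 = 1) (cc : c % 9 = 1) (cE : E % 9 = 5)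
    (hsum : 1 + a + b + c + E = 0) (hg : 360 ≤ g)
    (hsq : 1 + (a * a + b * b + c * c) + 2 * (E * E) ≤ g)
    (heq : 1 + (a : ℚ)⁻¹ + (b : ℚ)⁻¹ + (c : ℚ)⁻¹ - 2 * (E : ℚ)⁻¹ = 162 / (g : ℚ)) :
    g = 360 := by
  have hle : 162 / (g : ℚ) ≤ 9 / 20 := by
    have : (360 : ℚ) ≤ g := by exact_mod_cast hg
    rw [div_le_div_iff₀ (by linarith) (by norm_num)]; linarith
  have sgn : ∀ x : ℤ, x % 9 = 1 → x ≠ 1 → (x ≤ -8 ∧ -(8 : ℚ)⁻¹ ≤ (x : ℚ)⁻¹) ∨
      (10 ≤ x ∧ (0 : ℚ) ≤ (x : ℚ)⁻¹) := by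
    intro x h1 h2
    rcases lt_or_ge x 0 with h | h
    · left
      have h8 : x ≤ -8 := by omega
      exact ⟨h8, by simpa using inv_lower (x := x) (k := 8) (by norm_num) (by omega)⟩
    · exact Or.inr ⟨by omega, inv_nonneg' (by omega)⟩
  rcases lt_or_gt_of_ne hE with hE' | hE'
  · exfalso
    have iE : (E : ℚ)⁻¹ ≤ 0 := inv_nonpos.mpr (by exact_mod_cast hE'.le)
    rcases sgn a ca ha with ⟨-, ia⟩ | ⟨-, ia⟩ <;> rcases sgn b cb hb with ⟨-, ib⟩ | ⟨-, ib⟩ <;>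
      rcases sgn c cc hc with ⟨-, ic⟩ | ⟨-, ic⟩ <;> linarith
  by_cases hE5 : E = 5
  · subst hE5
    push_cast at heq
    rcases sgn a ca ha with ⟨la, ia⟩ | ⟨la, ia⟩ <;> rcases sgn b cb hb with ⟨lb, ib⟩ | ⟨lb, ib⟩ <;>
      rcases sgn c cc hc with ⟨lc, ic⟩ | ⟨lc, ic⟩
    · omega
    · exact two_negative la lb lc (by omega) ca cb hg (by linarith) heq
    · exact two_negative (c := b) la lc lb (by omega) ca cc hg (by linarith) (by linarith)
    · exfalso; linarith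
    · exact two_negative (c := a) lb lc la (by omega) cb cc hg (by linarith) (by linarith)
    · exfalso; linarith
    · exfalso; linarith
    · exfalso; linarith
  exfalso
  have hE14 : 14 ≤ E := by omega
  have iE : (E : ℚ)⁻¹ ≤ (14 : ℚ)⁻¹ := inv_anti₀ (by norm_num) (by exact_mod_cast hE14)
  rcases sgn a ca ha with ⟨-, ia⟩ | ⟨-, ia⟩ <;> rcases sgn b cb hb with ⟨-, ib⟩ | ⟨-, ib⟩ <;>
    rcases sgn c cc hc with ⟨-, ic⟩ | ⟨-, ic⟩ <;> linarith

/-- The degrees are impossible for a complement of order two. -/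
theorem false_two {D E g : ℤ} (hD : D ≠ 0) (hE : E ≠ 0) (hsum : 1 + D + E = 0) (hg : 81 < g)
    (e1 : 1 + (D : ℚ)⁻¹ + 4 * (E : ℚ)⁻¹ = 0)
    (e2 : 1 + (D : ℚ)⁻¹ - 5 * (E : ℚ)⁻¹ = 81 / (g : ℚ)) : False := by
  have hg' : (81 : ℚ) < g := by exact_mod_cast hg
  have hr : (0 : ℚ) < 81 / (g : ℚ) := by positivity
  have hr1 : 81 / (g : ℚ) < 1 := by rw [div_lt_one (by linarith)]; linarith
  have iE : (E : ℚ)⁻¹ < 0 := by linarith
  have hE' : E < 0 := by exact_mod_cast inv_lt_zero.mp iE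
  have iD : (0 : ℚ) < (D : ℚ)⁻¹ := inv_pos.mpr (by exact_mod_cast (show 0 < D by omega))
  linarith

variable {ι : Type u} [Fintype ι] [DecidableEq ι]

/-- The support away from the principal constituent. -/
theorem exists_support (o : ι) (c : ι → ℤ) (n : ℕ) (ho : c o = 1)
    (hn : ∑ χ, c χ * c χ = (n : ℤ) + 1) (hsmall : ∀ χ, χ ≠ o → c χ * c χ ≤ 1) :
    ∃ S : Finset ι, S.card = n ∧ o ∉ S ∧ (∀ χ ∈ S, c χ = 1 ∨ c χ = -1) ∧
      ∀ χ, χ ≠ o → χ ∉ S → c χ = 0 := by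
  set S := Finset.univ.filter fun χ => χ ≠ o ∧ c χ ≠ 0 with hS
  have hone : ∀ χ, χ ≠ o → c χ = 0 ∨ c χ = 1 ∨ c χ = -1 := by
    intro χ hχ
    have h := hsmall χ hχ
    have : -1 ≤ c χ ∧ c χ ≤ 1 := ⟨by nlinarith, by nlinarith⟩
    omega
  refine ⟨S, ?_, by simp [hS], fun χ hχ => ?_, fun χ h1 h2 => ?_⟩
  · have h : ∑ χ ∈ S, c χ * c χ = (n : ℤ) := by
      rw [← Finset.sum_erase_add _ _ (Finset.mem_univ o), ho] at hn
      have h2 : ∑ χ ∈ S, c χ * c χ = ∑ χ ∈ Finset.univ.erase o, c χ * c χ := by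
        refine Finset.sum_subset (fun χ hχ => ?_) fun χ hχ hn => ?_
        · simp only [hS, Finset.mem_filter] at hχ
          simp [hχ.2.1]
        · simp only [Finset.mem_erase] at hχ
          simp only [hS, Finset.mem_filter, Finset.mem_univ, true_and, not_and, not_not] at hn
          rw [hn hχ.1, mul_zero]
      omega
    have h1 : ∑ χ ∈ S, c χ * c χ = ∑ _χ ∈ S, (1 : ℤ) := Finset.sum_congr rfl fun χ hχ => by
      simp only [hS, Finset.mem_filter] at hχ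
      rcases hone χ hχ.2.1 with h' | h' | h'
      · exact absurd h' hχ.2.2
      all_goals rw [h']; norm_num
    rw [h, Finset.sum_const, nsmul_eq_mul, mul_one] at h1
    exact_mod_cast h1.symm
  · simp only [hS, Finset.mem_filter] at hχ
    rcases hone χ hχ.2.1 with h | h | h
    · exact absurd h hχ.2.2
    · exact Or.inl h
    · exact Or.inr h
  · by_contra h
    exact h2 (Finset.mem_filter.mpr ⟨Finset.mem_univ _, h1, h⟩)

theorem sum_list (l : List ι) (hl : l.Nodup) {β : Type*} [AddCommMonoid β] (f : ι → β)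
    (h0 : ∀ χ, χ ∉ l → f χ = 0) : ∑ χ, f χ = (l.map f).sum := by
  rw [← Finset.sum_subset (Finset.subset_univ l.toFinset)
    fun χ _ hχ => h0 χ (fun h => hχ (List.mem_toFinset.mpr h)), List.sum_toFinset f hl]

end Cfsg.Agent.Lib.ThreeFree.Arith
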