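import Cfsg.Agent.Lib.ThreeFree.Arith
import Mathlib.Algebra.BigOperators.Fin
import Mathlib.Data.Fintype.Basic
import Mathlib.Tactic.FinCases
import Mathlib.Tactic.IntervalCases
import Mathlib.Tactic.LinearCombination

/-!
# The constituents of the induced functions
-/

set_option autoImplicit false

namespace Cfsg.Agent.Lib.ThreeFree.Cases

open Arith

universe u

variable {ι : Type u} [Fintype ι] [DecidableEq ι]

theorem small_of_norm {o : ι} {c d : ι → ℤ} {n : ℤ} (hd : ∀ χ, 0 < d χ) (hdo : d o = 1)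
    (ho : c o = 1) (hn : ∑ χ, c χ * c χ = n) (hn6 : n ≤ 5) (h0 : ∑ χ, c χ * d χ = 0) :
    ∀ χ, χ ≠ o → c χ * c χ ≤ 1 := by
  intro χ hχ
  by_contra hbig
  have hle : c χ * c χ ≤ 4 := by
    have h := Finset.sum_le_sum_of_subset_of_nonneg (Finset.subset_univ ({o, χ} : Finset ι))
      (f := fun x => c x * c x) fun x _ _ => mul_self_nonneg _
    rw [Finset.sum_pair hχ.symm, ho, hn] at h
    omega
  have hc2 : c χ = 2 ∨ c χ = -2 := by
    have : -2 ≤ c χ ∧ c χ ≤ 2 := ⟨by nlinarith, by nlinarith⟩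
    obtain ⟨h1, h2⟩ := this
    interval_cases h : c χ <;> simp at hbig hle ⊢
  have hz : ∀ x, x ≠ o → x ≠ χ → c x = 0 := by
    intro x h1 h2
    by_contra hne
    have h := Finset.sum_le_sum_of_subset_of_nonneg (Finset.subset_univ ({o, χ, x} : Finset ι))
      (f := fun x => c x * c x) fun x _ _ => mul_self_nonneg _
    rw [Finset.sum_insert (by simp [hχ.symm, Ne.symm h1]), Finset.sum_pair (Ne.symm h2), ho, hn] at h
    have := mul_self_pos.mpr hne
    rcases hc2 with h' | h' <;> rw [h'] at h <;> omega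
  rw [← Finset.sum_subset (Finset.subset_univ ({o, χ} : Finset ι)) (fun x _ hx => by
    simp only [Finset.mem_insert, Finset.mem_singleton, not_or] at hx
    rw [hz x hx.1 hx.2, zero_mul]), Finset.sum_pair hχ.symm, ho, hdo] at h0
  have := hd χ
  rcases hc2 with h' | h' <;> rw [h'] at h0 <;> omega

/-- The data for a complement of order two. -/
theorem false_two_data (o : ι) (d : ι → ℤ) (c : Fin 4 → ι → ℤ) (g : ℤ) (hd : ∀ χ, 0 < d χ)
    (hdo : d o = 1) (ho : ∀ i, c i o = 1) (hn : ∀ i, ∑ χ, c i χ * c i χ = 3)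
    (hij : ∀ i j, i ≠ j → ∑ χ, c i χ * c j χ = 2) (h0 : ∀ i, ∑ χ, c i χ * d χ = 0) (hg : 81 < g)
    (a : Fin 4 → ι → ℤ) (ha : ∀ j χ, a j χ = c 0 χ + c 1 χ + c 2 χ + c 3 χ - 3 * c j χ)
    (e1 : ∑ χ, ((a 0 χ * a 0 χ * a 1 χ : ℤ) : ℚ) / (d χ : ℚ) = 0)
    (e2 : ∑ χ, ((a 0 χ * a 1 χ * a 2 χ : ℤ) : ℚ) / (d χ : ℚ) = 81 / (g : ℚ)) : False := by
  choose S hcard hoS hone hzero using fun i => exists_support o (c i) 2 (ho i) (by rw [hn]; rfl)
    (small_of_norm hd hdo (ho i) (hn i) (by norm_num) (h0 i))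
  -- two supports meet in exactly one point, with equal signs
  have meet : ∀ i j, i ≠ j → ∃ p q r, S i = {p, q} ∧ S j = {p, r} ∧ p ≠ q ∧ p ≠ r ∧ q ≠ r ∧
      c i p = c j p := by
    intro i j hne
    have hsum : ∑ χ ∈ S i ∩ S j, c i χ * c j χ = 1 := by
      have h := hij i j hne
      rw [← Finset.sum_erase_add _ _ (Finset.mem_univ o), ho, ho] at h
      rw [Finset.sum_subset (s₂ := Finset.univ.erase o) (fun x hx => Finset.mem_erase.mpr
        ⟨fun e => hoS i (e ▸ (Finset.mem_inter.mp hx).1), Finset.mem_univ _⟩) fun x hx hx' => by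
        rw [Finset.mem_inter, not_and_or] at hx'
        rcases hx' with h' | h'
        · rw [hzero i x (Finset.mem_erase.mp hx).1 h', zero_mul]
        · rw [hzero j x (Finset.mem_erase.mp hx).1 h', mul_zero]]
      omega
    obtain ⟨x, y, hxy, hS⟩ := Finset.card_eq_two.mp (hcard i)
    have hx := hone i x (by rw [hS]; simp)
    have hy := hone i y (by rw [hS]; simp)
    have key : ∀ p q, p ≠ q → S i = {p, q} → p ∈ S j → q ∉ S j → ∃ p q r, S i = {p, q} ∧
        S j = {p, r} ∧ p ≠ q ∧ p ≠ r ∧ q ≠ r ∧ c i p = c j p := by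
      intro p q hpq hSi hp hq
      obtain ⟨u, v, huv, hSj⟩ := Finset.card_eq_two.mp (hcard j)
      have hint : S i ∩ S j = {p} := by
        ext z
        rw [hSi]
        simp only [Finset.mem_inter, Finset.mem_insert, Finset.mem_singleton]
        constructor
        · rintro ⟨rfl | rfl, hz⟩
          · rfl
          · exact absurd hz hq
        · rintro rfl; exact ⟨Or.inl rfl, hp⟩
      rw [hint, Finset.sum_singleton] at hsum
      have hcp : c i p = c j p := by
        rcases hone i p (by rw [hSi]; simp) with h | h <;> rcases hone j p hp with h' | h' <;>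
          rw [h, h'] at hsum ⊢ <;> omega
      rw [hSj] at hp
      simp only [Finset.mem_insert, Finset.mem_singleton] at hp
      rcases hp with rfl | rfl
      · exact ⟨p, q, v, hSi, hSj, hpq, huv, fun e => hq (by rw [hSj, e]; simp), hcp⟩
      · exact ⟨p, q, u, hSi, by rw [hSj, Finset.pair_comm], hpq, huv.symm,
          fun e => hq (by rw [hSj, e]; simp), hcp⟩
    by_cases h1 : x ∈ S j <;> by_cases h2 : y ∈ S j
    · exfalso
      have hint : S i ∩ S j = {x, y} := by
        ext z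
        rw [hS]
        simp only [Finset.mem_inter, Finset.mem_insert, Finset.mem_singleton]
        exact ⟨fun h => h.1, fun h => ⟨h, by rcases h with rfl | rfl <;> assumption⟩⟩
      rw [hint, Finset.sum_pair hxy] at hsum
      rcases hone j x h1 with h | h <;> rcases hone j y h2 with h' | h' <;>
        rcases hx with h'' | h'' <;> rcases hy with h''' | h''' <;>
        rw [h, h', h'', h'''] at hsum <;> omega
    · exact key x y hxy hS h1 h2
    · exact key y x hxy.symm (by rw [hS, Finset.pair_comm]) h2 h1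
    · exfalso
      have hint : S i ∩ S j = ∅ := by
        rw [hS]
        ext z
        simp only [Finset.mem_inter, Finset.mem_insert, Finset.mem_singleton, Finset.notMem_empty,
          iff_false, not_and]
        rintro (rfl | rfl) <;> assumption
      rw [hint, Finset.sum_empty] at hsum
      omega
  obtain ⟨D, E₀, E₁, hS0, hS1, hDE0, hDE1, hE01, hD01⟩ := meet 0 1 (by decide)
  -- every support contains the common point
  have notboth : ∀ i j, i ≠ j → S i ≠ S j := by
    intro i j hne he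
    obtain ⟨p, q, r, h1, h2, hpq, -, hqr, -⟩ := meet i j hne
    have : q ∈ S j := by rw [← he, h1]; simp
    rw [h2] at this
    simp only [Finset.mem_insert, Finset.mem_singleton] at this
    rcases this with h | h
    · exact hpq h.symm
    · exact hqr h
  have avoid : ∀ k, k ≠ 0 → k ≠ 1 → D ∉ S k → S k = {E₀, E₁} := by
    intro k hk0 hk1 hD
    have h0' : E₀ ∈ S k := by
      obtain ⟨p, q, r, h1, h2, -, -, -, -⟩ := meet 0 k (Ne.symm hk0)
      have hp : p ∈ S k := by rw [h2]; simp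
      have : p ∈ S 0 := by rw [h1]; simp
      rw [hS0] at this
      simp only [Finset.mem_insert, Finset.mem_singleton] at this
      rcases this with rfl | rfl
      · exact absurd hp hD
      · exact hp
    have h1' : E₁ ∈ S k := by
      obtain ⟨p, q, r, h1, h2, -, -, -, -⟩ := meet 1 k (Ne.symm hk1)
      have hp : p ∈ S k := by rw [h2]; simp
      have : p ∈ S 1 := by rw [h1]; simp
      rw [hS1] at this
      simp only [Finset.mem_insert, Finset.mem_singleton] at this
      rcases this with rfl | rfl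
      · exact absurd hp hD
      · exact hp
    refine (Finset.eq_of_subset_of_card_le ?_ (by rw [hcard, Finset.card_pair hE01])).symm
    intro z hz
    simp only [Finset.mem_insert, Finset.mem_singleton] at hz
    rcases hz with rfl | rfl <;> assumption
  have allD : ∀ k, D ∈ S k := by
    have main : ∀ k l, k ≠ 0 → k ≠ 1 → l ≠ 0 → l ≠ 1 → k ≠ l → D ∈ S k := by
      intro k l hk0 hk1 hl0 hl1 hkl
      by_contra hD
      have hk := avoid k hk0 hk1 hD
      by_cases hDl : D ∈ S l
      · obtain ⟨p, q, r, h1, h2, -, hpr, -, -⟩ := meet k l hkl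
        have hpk : p ∈ S k := by rw [h1]; simp
        have hpl : p ∈ S l := by rw [h2]; simp
        rw [hk] at hpk
        simp only [Finset.mem_insert, Finset.mem_singleton] at hpk
        rcases hpk with rfl | rfl
        · apply notboth l 0 hl0
          rw [hS0]
          refine (Finset.eq_of_subset_of_card_le ?_ (by rw [hcard, Finset.card_pair hDE0])).symm
          intro z hz
          simp only [Finset.mem_insert, Finset.mem_singleton] at hz
          rcases hz with rfl | rfl <;> assumption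
        · apply notboth l 1 hl1
          rw [hS1]
          refine (Finset.eq_of_subset_of_card_le ?_ (by rw [hcard, Finset.card_pair hDE1])).symm
          intro z hz
          simp only [Finset.mem_insert, Finset.mem_singleton] at hz
          rcases hz with rfl | rfl <;> assumption
      · exact notboth k l hkl (hk.trans (avoid l hl0 hl1 hDl).symm)
    have m0 : D ∈ S 0 := by rw [hS0]; simp
    have m1 : D ∈ S 1 := by rw [hS1]; simp
    intro k
    fin_cases k
    exacts [m0, m1, main 2 3 (by decide) (by decide) (by decide) (by decide) (by decide),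
      main 3 2 (by decide) (by decide) (by decide) (by decide) (by decide)]
  have hE : ∀ k, ∃ x, S k = {D, x} ∧ x ≠ D := by
    intro k
    obtain ⟨u, v, huv, h⟩ := Finset.card_eq_two.mp (hcard k)
    have := allD k
    rw [h] at this
    simp only [Finset.mem_insert, Finset.mem_singleton] at this
    rcases this with rfl | rfl
    · exact ⟨v, h, huv.symm⟩
    · exact ⟨u, by rw [h, Finset.pair_comm], huv⟩
  choose E hSE hED using hE
  have Einj : ∀ i j, i ≠ j → E i ≠ E j := fun i j hne he =>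
    notboth i j hne (by rw [hSE, hSE, he])
  have hsD : ∀ k, c k D = c 0 D := by
    intro k
    by_cases hk : k = 0
    · rw [hk]
    obtain ⟨p, q, r, h1, h2, -, -, -, hp⟩ := meet k 0 hk
    have : p = D := by
      have h3 : p ∈ S k := by rw [h1]; simp
      have h4 : p ∈ S 0 := by rw [h2]; simp
      rw [hSE] at h3 h4
      simp only [Finset.mem_insert, Finset.mem_singleton] at h3 h4
      rcases h3 with h3 | h3
      · exact h3
      rcases h4 with h4 | h4
      · exact h4
      · exact absurd (h3.symm.trans h4) (Einj k 0 hk)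
    rw [← this, hp]
  have hcE : ∀ i j, i ≠ j → c i (E j) = 0 := fun i j hne => hzero i _
    (fun e => hoS j (by rw [hSE]; simp [← e]))
    (fun e => by
      rw [hSE] at e
      simp only [Finset.mem_insert, Finset.mem_singleton] at e
      rcases e with e | e
      · exact hED j e
      · exact Einj j i (Ne.symm hne) e)
  have hDo : D ≠ o := fun e => hoS 0 (e ▸ allD 0)
  have hEo : ∀ k, E k ≠ o := fun k e => hoS k (by rw [hSE]; simp [← e])
  have hl : [o, D, E 0, E 1, E 2, E 3].Nodup := by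
    simp only [List.nodup_cons, List.mem_cons, List.not_mem_nil, or_false, not_or,
      List.nodup_nil, and_true, not_false_eq_true]
    exact ⟨⟨hDo.symm, (hEo 0).symm, (hEo 1).symm, (hEo 2).symm, (hEo 3).symm⟩,
      ⟨(hED 0).symm, (hED 1).symm, (hED 2).symm, (hED 3).symm⟩,
      ⟨Einj 0 1 (by decide), Einj 0 2 (by decide), Einj 0 3 (by decide)⟩,
      ⟨Einj 1 2 (by decide), Einj 1 3 (by decide)⟩, Einj 2 3 (by decide)⟩
  have hz : ∀ χ, χ ∉ [o, D, E 0, E 1, E 2, E 3] → ∀ i, c i χ = 0 := by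
    intro χ hχ i
    simp only [List.mem_cons, List.not_mem_nil, or_false, not_or] at hχ
    refine hzero i χ hχ.1 fun h => ?_
    rw [hSE] at h
    simp only [Finset.mem_insert, Finset.mem_singleton] at h
    rcases h with h | h
    · exact hχ.2.1 h
    · fin_cases i
      exacts [hχ.2.2.1 h, hχ.2.2.2.1 h, hχ.2.2.2.2.1 h, hχ.2.2.2.2.2 h]
  have hdeg : ∀ k, 1 + c 0 D * d D + c k (E k) * d (E k) = 0 := by
    intro k
    have h := h0 k
    rw [← Finset.sum_subset (Finset.subset_univ ({o, D, E k} : Finset ι)) (fun x _ hx => by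
      simp only [Finset.mem_insert, Finset.mem_singleton, not_or] at hx
      rw [hzero k x hx.1 (by rw [hSE]; simp [hx.2.1, hx.2.2]), zero_mul]),
      Finset.sum_insert (by simp [hDo.symm, (hEo k).symm]), Finset.sum_pair (hED k).symm,
      ho, hdo, hsD] at h
    linarith
  rw [sum_list _ hl _ fun χ hχ => by
    rw [ha, ha, hz χ hχ 0, hz χ hχ 1, hz χ hχ 2, hz χ hχ 3]; simp] at e1 e2
  have vD : ∀ j, a j D = c 0 D := fun j => by
    rw [ha, hsD 1, hsD 2, hsD 3, hsD j]; ring
  have vo : ∀ j, a j o = 1 := fun j => by rw [ha, ho, ho, ho, ho, ho]; norm_num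
  have vE : ∀ j k, a j (E k) = if j = k then -2 * c k (E k) else c k (E k) := by
    intro j k
    rw [ha]
    fin_cases j <;> fin_cases k <;> simp [hcE] <;> ring
  have signed : ∀ (s : ℤ) (x : ι) (k : ℤ), s = 1 ∨ s = -1 →
      ((k * s : ℤ) : ℚ) / (d x : ℚ) = (k : ℚ) * ((s * d x : ℤ) : ℚ)⁻¹ := by
    intro s x k hs
    rcases hs with rfl | rfl <;> push_cast
    · rw [mul_one, one_mul, div_eq_mul_inv]
    · rw [neg_one_mul, inv_neg, div_eq_mul_inv]; ring
  have sgnE : ∀ k, c k (E k) = 1 ∨ c k (E k) = -1 := fun k => hone k _ (by rw [hSE]; simp)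
  have sD : c 0 D = 1 ∨ c 0 D = -1 := hone 0 D (allD 0)
  have cube : ∀ s : ℤ, s = 1 ∨ s = -1 → s * s * s = s := by
    rintro s (rfl | rfl) <;> norm_num
  set N := c 0 D * d D with hN
  set X := -1 - N with hX
  have hEX : ∀ k, ((c k (E k) * d (E k) : ℤ) : ℚ) = (X : ℚ) := fun k => by
    have := hdeg k
    rw [show c k (E k) * d (E k) = X by omega]
  simp only [List.map_cons, List.map_nil, List.sum_cons, List.sum_nil, vo, hdo, vD, vE,
    add_zero] at e1 e2
  norm_num [Fin.ext_iff] at e1 e2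
  have c0 := sgnE 0
  have c1 := sgnE 1
  have c2 := sgnE 2
  have c3 := sgnE 3
  have tD : ((c 0 D * c 0 D * c 0 D : ℤ) : ℚ) / (d D : ℚ) = (N : ℚ)⁻¹ := by
    rw [cube _ sD]
    have := signed _ D 1 sD
    rw [one_mul] at this
    rw [this]; simp [hN]
  have tE : ∀ k, ((c k (E k) * c k (E k) * c k (E k) : ℤ) : ℚ) / (d (E k) : ℚ) = (X : ℚ)⁻¹ := by
    intro k
    rw [cube _ (sgnE k)]
    have := signed _ (E k) 1 (sgnE k)
    rw [one_mul] at this
    rw [this, ← hEX k]; simp
  push_cast at tD tE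
  have hNX : N ≠ 0 ∧ X ≠ 0 := by
    have h1 := hd D
    have h2 := hd (E 0)
    have h3 := hdeg 0
    constructor
    · rcases sD with h | h <;> rw [hN, h] <;> omega
    · rcases sgnE 0 with h | h <;> rw [h] at h3 <;> omega
  refine false_two hNX.1 hNX.2 (by omega) hg ?_ ?_
  · have k0 := tE 0
    have k1 := tE 1
    have k2 := tE 2
    have k3 := tE 3
    rw [← e1, ← tD]
    linear_combination (-4 : ℚ) * k0 + 2 * k1 - k2 - k3
  · have k0 := tE 0
    have k1 := tE 1
    have k2 := tE 2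
    have k3 := tE 3
    rw [← e2, ← tD]
    linear_combination 2 * k0 + 2 * k1 + 2 * k2 - k3

/-- The data for a complement of order four. -/
theorem order_four_data (o : ι) (d : ι → ℤ) (c f : ι → ℤ) (g : ℤ) (hd : ∀ χ, 0 < d χ)
    (hdo : d o = 1) (hco : c o = 1) (hfo : f o = 0) (hc : ∑ χ, c χ * c χ = 5)
    (hf : ∑ χ, f χ * f χ = 2) (hcf : ∑ χ, c χ * f χ = -1) (c0 : ∑ χ, c χ * d χ = 0)
    (f0 : ∑ χ, f χ * d χ = 0) (hlin : ∀ χ, χ ≠ o → d χ ≠ 1) (hg : 360 ≤ g)
    (hsq : ∑ χ, d χ * d χ ≤ g) (a b : ι → ℤ) (ha : ∀ χ, a χ = c χ + 2 * f χ)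
    (hb : ∀ χ, b χ = c χ - f χ) (hcong : ∀ χ, (9 : ℤ) ∣ d χ + 4 * a χ + 4 * b χ)
    (heq : ∑ χ, ((a χ * a χ * b χ : ℤ) : ℚ) / (d χ : ℚ) = 162 / (g : ℚ)) : g = 360 := by
  obtain ⟨S, hScard, hoS, hone, hzero⟩ := exists_support o c 4 hco (by rw [hc]; rfl)
    (small_of_norm hd hdo hco hc le_rfl c0)
  -- the support of the second function
  obtain ⟨P, hP, hPz⟩ : ∃ P : Finset ι, (∀ χ ∈ P, f χ = 1 ∨ f χ = -1) ∧
      ((∀ χ, χ ∉ P → f χ = 0) ∧ P.card = 2) := by
    refine ⟨Finset.univ.filter fun χ => f χ ≠ 0, ?_, ?_, ?_⟩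
    · intro χ hχ
      have h1 := Finset.single_le_sum (f := fun x => f x * f x)
        (fun x _ => mul_self_nonneg _) (Finset.mem_univ χ)
      simp only [hf] at h1
      have : -1 ≤ f χ ∧ f χ ≤ 1 := ⟨by nlinarith, by nlinarith⟩
      have hne := (Finset.mem_filter.mp hχ).2
      omega
    · intro χ hχ
      simpa using hχ
    · have h1 : ∑ χ ∈ Finset.univ.filter (fun χ => f χ ≠ 0), f χ * f χ =
          ∑ _χ ∈ Finset.univ.filter (fun χ => f χ ≠ 0), (1 : ℤ) := by
        refine Finset.sum_congr rfl fun χ hχ => ?_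
        have h1 := Finset.single_le_sum (f := fun x => f x * f x)
          (fun x _ => mul_self_nonneg _) (Finset.mem_univ χ)
        simp only [hf] at h1
        have h2 : -1 ≤ f χ ∧ f χ ≤ 1 := ⟨by nlinarith, by nlinarith⟩
        have hne := (Finset.mem_filter.mp hχ).2
        rcases (show f χ = 1 ∨ f χ = -1 by omega) with h | h <;> rw [h] <;> norm_num
      rw [Finset.sum_subset (Finset.subset_univ _) (fun x _ hx => by
        have : f x = 0 := by simpa using hx
        rw [this, zero_mul]), hf, Finset.sum_const, nsmul_eq_mul, mul_one] at h1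
      exact_mod_cast h1.symm
  obtain ⟨X₀, Y₀, hXY₀, rfl⟩ := Finset.card_eq_two.mp hPz.2
  have hXo : ∀ {x}, x ∈ ({X₀, Y₀} : Finset ι) → x ≠ o := fun hx e => by
    rcases hP _ hx with h | h <;> rw [e, hfo] at h <;> omega
  have fdeg : f X₀ * d X₀ + f Y₀ * d Y₀ = 0 := by
    rw [← f0, ← Finset.sum_subset (Finset.subset_univ ({X₀, Y₀} : Finset ι))
      (fun x _ hx => by rw [hPz.1 x hx, zero_mul]), Finset.sum_pair hXY₀]
  have fsum : f X₀ * c X₀ + f Y₀ * c Y₀ = -1 := by
    rw [← hcf, ← Finset.sum_subset (Finset.subset_univ ({X₀, Y₀} : Finset ι))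
      (fun x _ hx => by rw [hPz.1 x hx, mul_zero]), Finset.sum_pair hXY₀]
    ring
  have crange : ∀ x, x ≠ o → c x = 0 ∨ c x = 1 ∨ c x = -1 := fun x hx => by
    by_cases h : x ∈ S
    · exact Or.inr (hone x h)
    · exact Or.inl (hzero x hx h)
  obtain ⟨X, Y, hXY, hpair, hXYd, hfXY, hcY, hcX⟩ : ∃ X Y, X ≠ Y ∧
      ({X₀, Y₀} : Finset ι) = {X, Y} ∧ d X = d Y ∧ f Y = -f X ∧ c Y = 0 ∧ c X = -f X := by
    have h1 := hP X₀ (by simp)
    have h2 := hP Y₀ (by simp)
    have hXd := hd X₀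
    have hYd := hd Y₀
    have h3 : f Y₀ = -f X₀ ∧ d X₀ = d Y₀ := by
      rcases h1 with h | h <;> rcases h2 with h' | h' <;> rw [h, h'] at fdeg ⊢ <;> omega
    have h4 : (c Y₀ = 0 ∧ c X₀ = -f X₀) ∨ (c X₀ = 0 ∧ c Y₀ = -f Y₀) := by
      rw [h3.1] at fsum ⊢
      rcases crange X₀ (hXo (by simp)) with h | h | h <;>
        rcases crange Y₀ (hXo (by simp)) with h' | h' | h' <;>
        rcases h1 with h'' | h'' <;> rw [h, h', h''] at fsum ⊢ <;> omega
    rcases h4 with ⟨h5, h6⟩ | ⟨h5, h6⟩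
    · exact ⟨X₀, Y₀, hXY₀, rfl, h3.2, h3.1, h5, h6⟩
    · exact ⟨Y₀, X₀, hXY₀.symm, Finset.pair_comm _ _, h3.2.symm, by omega, h5, h6⟩
  rw [hpair] at hP hPz hXo
  have hfX := hP X (by simp)
  have hXS : X ∈ S := by
    by_contra h
    have := hzero X (hXo (by simp)) h
    rcases hfX with h' | h' <;> omega
  obtain ⟨D₁, D₂, D₃, h12, h13, h23, hSe⟩ := Finset.card_eq_three.mp
    (show (S.erase X).card = 3 by rw [Finset.card_erase_of_mem hXS, hScard])
  have hmem : ∀ x, x = D₁ ∨ x = D₂ ∨ x = D₃ →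
      x ≠ o ∧ x ≠ X ∧ x ≠ Y ∧ (c x = 1 ∨ c x = -1) ∧ f x = 0 := by
    intro x hx
    have hx' : x ∈ S.erase X := by rw [hSe]; simpa using hx
    obtain ⟨hxX, hxS⟩ := Finset.mem_erase.mp hx'
    have hxY : x ≠ Y := fun e => by
      rcases hone x hxS with h | h <;> rw [e, hcY] at h <;> omega
    exact ⟨fun e => hoS (e ▸ hxS), hxX, hxY, hone x hxS, hPz.1 x (by simp [hxX, hxY])⟩
  obtain ⟨n1, x1, y1, s1, f1⟩ := hmem D₁ (Or.inl rfl)
  obtain ⟨n2, x2, y2, s2, f2⟩ := hmem D₂ (Or.inr (Or.inl rfl))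
  obtain ⟨n3, x3, y3, s3, f3⟩ := hmem D₃ (Or.inr (Or.inr rfl))
  have hl : [o, X, Y, D₁, D₂, D₃].Nodup := by
    simp only [List.nodup_cons, List.mem_cons, List.not_mem_nil, or_false, not_or,
      List.nodup_nil, and_true, not_false_eq_true]
    exact ⟨⟨(hXo (by simp)).symm, (hXo (by simp)).symm, n1.symm, n2.symm, n3.symm⟩,
      ⟨hXY, x1.symm, x2.symm, x3.symm⟩, ⟨y1.symm, y2.symm, y3.symm⟩, ⟨h12, h13⟩, h23⟩
  have hz : ∀ χ, χ ∉ [o, X, Y, D₁, D₂, D₃] → c χ = 0 ∧ f χ = 0 := by
    intro χ hχ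
    simp only [List.mem_cons, List.not_mem_nil, or_false, not_or] at hχ
    refine ⟨hzero χ hχ.1 fun h => ?_, hPz.1 χ (by simp [hχ.2.1, hχ.2.2.1])⟩
    have : χ ∈ S.erase X := Finset.mem_erase.mpr ⟨hχ.2.1, h⟩
    rw [hSe] at this
    simp [hχ.2.2.2.1, hχ.2.2.2.2.1, hχ.2.2.2.2.2] at this
  rw [sum_list _ hl _ fun χ hχ => by
    rw [ha, hb, (hz χ hχ).1, (hz χ hχ).2]; simp] at heq
  rw [sum_list _ hl _ fun χ hχ => by rw [(hz χ hχ).1, zero_mul]] at c0
  have hsq' : ([o, X, Y, D₁, D₂, D₃].map fun χ => d χ * d χ).sum ≤ g := by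
    refine le_trans ?_ hsq
    rw [← List.sum_toFinset _ hl]
    exact Finset.sum_le_sum_of_subset_of_nonneg (Finset.subset_univ _)
      fun x _ _ => mul_self_nonneg _
  simp only [List.map_cons, List.map_nil, List.sum_cons, List.sum_nil, ha, hb, hco, hfo, hdo,
    hcY, hfXY, f1, f2, f3, hcX, ← hXYd, add_zero] at heq c0 hsq'
  have g1 := hcong D₁
  have g2 := hcong D₂
  have g3 := hcong D₃
  have gX := hcong X
  rw [ha, hb, f1] at g1
  rw [ha, hb, f2] at g2
  rw [ha, hb, f3] at g3
  rw [ha, hb, hcX] at gX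
  have hdX := hd X
  have l1 := hlin _ n1
  have l2 := hlin _ n2
  have l3 := hlin _ n3
  have p1 := hd D₁
  have p2 := hd D₂
  have p3 := hd D₃
  have key : ∀ s : ℤ, s = 1 ∨ s = -1 → ∀ x : ℤ,
      ((s : ℚ) / (x : ℚ)) = ((s * x : ℤ) : ℚ)⁻¹ := by
    rintro s (rfl | rfl) x <;> push_cast
    · rw [one_mul, one_div]
    · rw [neg_one_mul, inv_neg, div_eq_mul_inv, neg_one_mul]
  refine order_four (a := c D₁ * d D₁) (b := c D₂ * d D₂) (c := c D₃ * d D₃) (E := -f X * d X)
    ?_ ?_ ?_ ?_ ?_ ?_ ?_ ?_ ?_ hg ?_ ?_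
  · rcases s1 with h | h <;> rw [h] <;> omega
  · rcases s2 with h | h <;> rw [h] <;> omega
  · rcases s3 with h | h <;> rw [h] <;> omega
  · rcases hfX with h | h <;> rw [h] <;> omega
  · rcases s1 with h | h <;> rw [h] at g1 ⊢ <;> omega
  · rcases s2 with h | h <;> rw [h] at g2 ⊢ <;> omega
  · rcases s3 with h | h <;> rw [h] at g3 ⊢ <;> omega
  · rcases hfX with h | h <;> rw [h] at gX ⊢ <;> omega
  · linarith
  · rcases s1 with h | h <;> rcases s2 with h' | h' <;> rcases s3 with h'' | h'' <;>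
      rcases hfX with h''' | h''' <;> simp only [h, h', h'', h'''] <;> linarith
  · rw [← heq, ← key _ s1, ← key _ s2, ← key _ s3,
      ← key (-f X) (by rcases hfX with h | h <;> omega)]
    rcases s1 with h | h <;> rcases s2 with h' | h' <;> rcases s3 with h'' | h'' <;>
      rcases hfX with h''' | h''' <;> simp only [h, h', h'', h'''] <;> push_cast <;> ring

end Cfsg.Agent.Lib.ThreeFree.Cases
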