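import Cfsg.Agent.Lib.ThreeNine.Triangle
import Cfsg.Agent.Lib.H80.ClassMult
import Cfsg.Agent.Lib.Induced.Character
import Cfsg.Agent.Lib.Induced.Generalized
import Mathlib.GroupTheory.PGroup

/-!
# A Sylow subgroup of exponent three equal to the centraliser of each of its nonidentity elements
-/

set_option autoImplicit false

namespace Cfsg.Agent.Lib.ThreeFree.Generic

open Cfsg.Agent.Lib.Induced.Basic Cfsg.Agent.Lib.Induced.Generalized
  Cfsg.Agent.Lib.Characters.Basic Cfsg.Agent.Lib.Characters.Complete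
open scoped ComplexConjugate Classical

universe u v

variable {G : Type u} [Group G] [Fintype G] {W : Type v} [Group W] [Fintype W]

/-- The local hypotheses, `W` a model of the normaliser. -/
structure Free (e : W →* G) (M : Sylow 3 G) : Prop where
  inj : Function.Injective e
  range : e.range = Subgroup.normalizer ((M : Subgroup G) : Set G)
  mem : ∀ w : W, w * w * w = 1 ↔ e w ∈ (M : Subgroup G)
  comm : ∀ x ∈ (M : Subgroup G), ∀ y ∈ (M : Subgroup G), x * y = y * x
  cent : ∀ m ∈ (M : Subgroup G), m ≠ 1 → Subgroup.centralizer ({m} : Set G) = (M : Subgroup G)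

variable {e : W →* G} {M : Sylow 3 G}

theorem Free.M_le (L : Free e M) : (M : Subgroup G) ≤ e.range :=
  L.range ▸ Subgroup.le_normalizer

theorem Free.pow_three (L : Free e M) {x : G} (hx : x ∈ (M : Subgroup G)) : x ^ 3 = 1 := by
  obtain ⟨w, rfl⟩ := L.M_le hx
  rw [← map_pow, pow_succ, pow_two, (L.mem w).mpr hx, map_one]

omit [Fintype G] [Fintype W] in
theorem conj_centralizer (g x z : G) :
    g * z * g⁻¹ ∈ Subgroup.centralizer ({g * x * g⁻¹} : Set G) ↔
      z ∈ Subgroup.centralizer ({x} : Set G) := by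
  simp only [Subgroup.mem_centralizer_singleton_iff]
  constructor
  · intro h
    have h2 := congrArg (fun t => g⁻¹ * t * g) h
    simpa [mul_assoc] using h2
  · intro h
    calc g * z * g⁻¹ * (g * x * g⁻¹) = g * (z * x) * g⁻¹ := by group
      _ = g * (x * z) * g⁻¹ := by rw [h]
      _ = _ := by group

theorem Free.ti (L : Free e M) {m g : G} (hm : m ∈ (M : Subgroup G)) (hm1 : m ≠ 1)
    (hg : g * m * g⁻¹ ∈ (M : Subgroup G)) : g ∈ e.range := by
  rw [L.range, Subgroup.mem_normalizer_iff]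
  intro x
  have hne : g * m * g⁻¹ ≠ 1 := fun h => hm1 (conj_eq_one_iff.mp h)
  rw [← L.cent m hm hm1, ← conj_centralizer g m x, L.cent _ hg hne, L.cent m hm hm1]

theorem exists_conj_mem (M : Sylow 3 G) {a : G} (ha : a ^ 3 = 1) :
    ∃ g : G, g * a * g⁻¹ ∈ (M : Subgroup G) := by
  have : Fact (Nat.Prime 3) := ⟨Nat.prime_three⟩
  have hp : IsPGroup 3 (Subgroup.zpowers a) := by
    rintro ⟨x, k, rfl⟩
    refine ⟨1, Subtype.ext ?_⟩
    show (a ^ k) ^ (3 ^ 1) = 1
    rw [pow_one, ← zpow_natCast, ← zpow_mul, mul_comm, zpow_mul, zpow_natCast, ha, one_zpow]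
  obtain ⟨P, hP⟩ := hp.exists_le_sylow
  obtain ⟨g, hg⟩ := MulAction.exists_smul_eq G P M
  refine ⟨g, hg ▸ ?_⟩
  exact ⟨a, hP (Subgroup.mem_zpowers a), rfl⟩

theorem Free.triangle (L : Free e M) :
    ∀ a x y : G, a ^ 3 = 1 → a ≠ 1 → Commute x a → Commute y a → x ^ 3 = 1 → y ^ 3 = 1 →
      Commute x y := by
  intro a x y ha ha1 hxa hya _ _
  obtain ⟨g, hg⟩ := exists_conj_mem M ha
  have hne : g * a * g⁻¹ ≠ 1 := fun h => ha1 (conj_eq_one_iff.mp h)
  have key : ∀ z : G, Commute z a → g * z * g⁻¹ ∈ (M : Subgroup G) := by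
    intro z hz
    rw [← L.cent _ hg hne, conj_centralizer, Subgroup.mem_centralizer_singleton_iff]
    exact hz.eq
  have h := L.comm _ (key x hxa) _ (key y hya)
  have h2 := congrArg (fun t => g⁻¹ * t * g) h
  show x * y = y * x
  simpa [mul_assoc] using h2

/-- Conjugacy in the model. -/
def conjW (u v : W) : Prop := ∃ g : W, g * u * g⁻¹ = v

instance decConjW [DecidableEq W] (u v : W) : Decidable (conjW u v) :=
  inferInstanceAs (Decidable (∃ g : W, g * u * g⁻¹ = v))

theorem Free.conjW_of_isConj (L : Free e M) {v w : W} (hv : v * v * v = 1) (hv1 : v ≠ 1)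
    (hw : w * w * w = 1) (h : IsConj (e v) (e w)) : conjW v w := by
  obtain ⟨c, hc⟩ := isConj_iff.mp h
  obtain ⟨d, rfl⟩ := L.ti ((L.mem v).mp hv) (fun h => hv1 (L.inj (by rw [h, map_one])))
    (by rw [hc]; exact (L.mem w).mp hw)
  exact ⟨d, L.inj (by rw [map_mul, map_mul, map_inv]; exact hc)⟩

omit [Fintype G] [Fintype W] in
theorem isConj_of_conjW (e : W →* G) {v w : W} (h : conjW v w) : IsConj (e v) (e w) := by
  obtain ⟨d, hd⟩ := h
  exact isConj_iff.mpr ⟨e d, by rw [← map_inv, ← map_mul, ← map_mul, hd]⟩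

/-- The structure constants. -/
theorem Free.structure_constant (L : Free e M) (hM9 : Nat.card (M : Subgroup G) = 9)
    [DecidableEq W] [Fintype (Cfsg.IrrCharacter G)] {u u' v : W}
    (hu3 : u * u * u = 1) (hu1 : u ≠ 1) (hu'3 : u' * u' * u' = 1) (hu'1 : u' ≠ 1)
    (hv3 : v * v * v = 1) (hv1 : v ≠ 1)
    (hno : conjW u u' → ¬ conjW (u * u) v) (N : ℕ)
    (hcount : (Finset.univ.filter fun w : W => conjW u' w ∧ conjW v (u * w)).card = N) :
    ∑ χ : Cfsg.IrrCharacter G,
      (χ : G → ℂ) (e u) * (χ : G → ℂ) (e u') * conj ((χ : G → ℂ) (e v)) / (χ : G → ℂ) 1 =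
      (81 * N : ℂ) / (Nat.card G : ℂ) := by
  have huM : e u ∈ (M : Subgroup G) := (L.mem u).mp hu3
  have hu'M : e u' ∈ (M : Subgroup G) := (L.mem u').mp hu'3
  have hvM : e v ∈ (M : Subgroup G) := (L.mem v).mp hv3
  have heu : e u ≠ 1 := fun h => hu1 (L.inj (by rw [h, map_one]))
  have heu' : e u' ≠ 1 := fun h => hu'1 (L.inj (by rw [h, map_one]))
  have hev : e v ≠ 1 := fun h => hv1 (L.inj (by rw [h, map_one]))
  have cu : Nat.card (Subgroup.centralizer ({e u'} : Set G)) = 9 := by
    rw [L.cent _ hu'M heu', hM9]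
  have hiff : ∀ a : G, IsConj (e v) (e u * (a * e u' * a⁻¹)) ↔
      ∃ w, (conjW u' w ∧ conjW v (u * w)) ∧ a * e u' * a⁻¹ = e w := by
    intro a
    constructor
    · intro h
      set y := a * e u' * a⁻¹ with hy
      have hu3' : e u ^ 3 = 1 := L.pow_three huM
      have hy3 : y ^ 3 = 1 := by rw [hy, conj_pow, L.pow_three hu'M]; group
      have hp3 : (e u * y) ^ 3 = 1 := by
        obtain ⟨c, hc⟩ := isConj_iff.mp h
        rw [← hc, conj_pow, L.pow_three hvM]; group
      rcases ThreeNine.Triangle.commute_or_conj L.triangle hu3' hy3 hp3 with hcm | ⟨hxy, hsq⟩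
      · have hyM : y ∈ (M : Subgroup G) := by
          rw [← L.cent _ huM heu]
          exact Subgroup.mem_centralizer_singleton_iff.mpr hcm.eq.symm
        obtain ⟨w, hw⟩ := L.M_le hyM
        have hw3 : w * w * w = 1 := (L.mem w).mpr (hw ▸ hyM)
        have huw : conjW u' w :=
          L.conjW_of_isConj hu'3 hu'1 hw3 (isConj_iff.mpr ⟨a, by rw [hw]⟩)
        have huw3 : u * w * (u * w) * (u * w) = 1 := L.inj (by
          rw [map_mul, map_mul, map_mul, hw, map_one, ← pow_two, ← pow_succ, hp3])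
        exact ⟨w, ⟨huw, L.conjW_of_isConj hv3 hv1 huw3 (by rw [map_mul, hw]; exact h)⟩, hw.symm⟩
      · exfalso
        have h1 : conjW u u' := L.conjW_of_isConj hu3 hu1 hu'3
          (hxy.trans (isConj_iff.mpr ⟨a, rfl⟩).symm)
        have hsq3 : u * u * (u * u) * (u * u) = 1 := L.inj (by
          rw [map_mul, map_mul, map_mul, map_one, ← pow_two, ← pow_two, ← pow_succ, ← pow_mul,
            mul_comm, pow_mul, hu3', one_pow])
        have hsq1 : u * u ≠ 1 := fun h0 => hu1 (by rw [h0, one_mul] at hu3; exact hu3)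
        exact hno h1 (L.conjW_of_isConj hsq3 hsq1 hv3 ((map_mul e u u).symm ▸ hsq.trans h.symm))
    · rintro ⟨w, ⟨-, h2⟩, hw⟩
      rw [hw, ← map_mul]
      exact isConj_of_conjW e h2
  have hcardA : (Finset.univ.filter fun a : G => IsConj (e v) (e u * (a * e u' * a⁻¹))).card =
      9 * N := by
    have heq : (Finset.univ.filter fun a : G => IsConj (e v) (e u * (a * e u' * a⁻¹))) =
        (Finset.univ.filter fun w : W => conjW u' w ∧ conjW v (u * w)).biUnion
          fun w => Finset.univ.filter fun a : G => a * e u' * a⁻¹ = e w := by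
      ext a
      simp only [Finset.mem_filter, Finset.mem_univ, true_and, Finset.mem_biUnion, hiff]
    rw [heq, Finset.card_biUnion]
    · have hf : ∀ w ∈ (Finset.univ.filter fun w : W => conjW u' w ∧ conjW v (u * w)),
          (Finset.univ.filter fun a : G => a * e u' * a⁻¹ = e w).card = 9 := by
        intro w hw
        obtain ⟨d, hd⟩ := (Finset.mem_filter.mp hw).2.1
        rw [← cu, ← Fintype.card_subtype, ← Nat.card_eq_fintype_card]
        have hd' : e d * e u' * (e d)⁻¹ = e w := by rw [← map_inv, ← map_mul, ← map_mul, hd]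
        refine Nat.card_congr
          { toFun := fun a => ⟨(e d)⁻¹ * a, ?_⟩
            invFun := fun c => ⟨e d * (c : G), ?_⟩
            left_inv := fun a => Subtype.ext (mul_inv_cancel_left _ _)
            right_inv := fun c => Subtype.ext (inv_mul_cancel_left _ _) }
        · rw [Subgroup.mem_centralizer_singleton_iff]
          have h := a.2.trans hd'.symm
          calc (e d)⁻¹ * (a : G) * e u' = (e d)⁻¹ * ((a : G) * e u' * (a : G)⁻¹) * a := by group
            _ = (e d)⁻¹ * (e d * e u' * (e d)⁻¹) * a := by rw [h]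
            _ = _ := by group
        · have h := Subgroup.mem_centralizer_singleton_iff.mp c.2
          show e d * (c : G) * e u' * (e d * (c : G))⁻¹ = e w
          rw [mul_assoc (e d), h, ← hd']
          group
      rw [Finset.sum_congr rfl hf, Finset.sum_const, hcount, smul_eq_mul, mul_comm]
    · intro w _ w' _ hne
      rw [Function.onFun, Finset.disjoint_left]
      intro a ha ha'
      rw [Finset.mem_filter] at ha ha'
      exact hne (L.inj (ha.2.symm.trans ha'.2))
  have h : ∑ a : G, ∑ χ : Cfsg.IrrCharacter G,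
      (χ : G → ℂ) (e u * (a * e u' * a⁻¹)) * conj ((χ : G → ℂ) (e v)) =
      (Nat.card G : ℂ) * ∑ χ : Cfsg.IrrCharacter G,
        (χ : G → ℂ) (e u) * (χ : G → ℂ) (e u') * conj ((χ : G → ℂ) (e v)) / (χ : G → ℂ) 1 := by
    rw [Finset.sum_comm, Finset.mul_sum]
    refine Finset.sum_congr rfl fun χ _ => ?_
    rw [← Finset.sum_mul, H80.ClassMult.sum_apply_mul_conj]
    ring
  have h2 : ∀ a : G, ∑ χ : Cfsg.IrrCharacter G,
      (χ : G → ℂ) (e u * (a * e u' * a⁻¹)) * conj ((χ : G → ℂ) (e v)) =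
      if IsConj (e v) (e u * (a * e u' * a⁻¹)) then 9 else 0 := by
    intro a
    rw [sum_irr_mul_conj]
    by_cases hh : IsConj (e v) (e u * (a * e u' * a⁻¹))
    · rw [if_pos hh, if_pos hh.symm]
      obtain ⟨c, hc⟩ := isConj_iff.mp hh
      have h9 : Nat.card (Subgroup.centralizer ({e u * (a * e u' * a⁻¹)} : Set G)) = 9 := by
        rw [← hc, ← hM9, ← L.cent _ hvM hev]
        exact (Nat.card_congr
          { toFun := fun z : Subgroup.centralizer ({e v} : Set G) =>
              (⟨c * z * c⁻¹, (conj_centralizer c _ _).mpr z.2⟩ :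
                Subgroup.centralizer ({c * e v * c⁻¹} : Set G))
            invFun := fun z => ⟨c⁻¹ * z * c, (conj_centralizer c _ _).mp (by
              rw [show c * (c⁻¹ * (z : G) * c) * c⁻¹ = z by group]; exact z.2)⟩
            left_inv := fun z => Subtype.ext (by simp [mul_assoc])
            right_inv := fun z => Subtype.ext (by simp [mul_assoc]) }).symm
      rw [h9]; norm_num
    · rw [if_neg hh, if_neg fun hh' => hh hh'.symm]
  simp only [h2] at h
  rw [← Finset.sum_filter, Finset.sum_const, hcardA, nsmul_eq_mul] at h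
  rw [eq_div_iff natCard_ne_zero]
  push_cast at h
  linear_combination -h

/-- The support. -/
def supp (w : W) : Prop := w * w * w = 1 ∧ w ≠ 1

instance decSupp [DecidableEq W] (w : W) : Decidable (supp w) :=
  inferInstanceAs (Decidable (w * w * w = 1 ∧ w ≠ 1))

/-- An integral generalized character of the model vanishing off the support. -/
structure Good (f : W → ℤ) : Prop where
  gen : Cfsg.IsGeneralizedCharacter W (fun w => (f w : ℂ))
  vanish : ∀ w, ¬ supp w → f w = 0

/-- The class function on the image. -/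
noncomputable def psi (L : Free e M) (f : W → ℤ) : e.range → ℂ :=
  fun x => (f ((MonoidHom.ofInjective L.inj).symm x) : ℂ)

theorem psi_eq (L : Free e M) (f : W → ℤ) {y : G} (h : y ∈ e.range) {w : W} (hw : e w = y) :
    psi L f ⟨y, h⟩ = (f w : ℂ) := by
  subst hw
  have : (⟨e w, h⟩ : e.range) = MonoidHom.ofInjective L.inj w := Subtype.ext rfl
  rw [psi, this, MulEquiv.symm_apply_apply]

/-- The induced function. -/
noncomputable def F (L : Free e M) (f : W → ℤ) : G → ℂ := Cfsg.indFun e.range (psi L f)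

variable {f f' : W → ℤ}

theorem isGen_F (L : Free e M) (hf : Good f) : Cfsg.IsGeneralizedCharacter G (F L f) :=
  Induced.Character.isGeneralizedCharacter_indFun _
    (isGen_comp (MonoidHom.ofInjective L.inj).symm.toMonoidHom hf.gen)

theorem F_one (L : Free e M) (hf : Good f) : F L f 1 = 0 := by
  rw [F, indFun_apply, Finset.sum_eq_zero, mul_zero]
  intro g _
  split
  · rename_i hg
    rw [psi_eq L f hg (w := 1) (by rw [map_one]; group), hf.vanish _ (fun h => h.2 rfl)]
    simp
  · rfl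

theorem F_supp (L : Free e M) (hf : Good f) {w : W} (hw : supp w) :
    F L f (e w) = (f w : ℂ) := by
  have key : ∀ g : G, (if hg : g⁻¹ * e w * g ∈ e.range then psi L f ⟨_, hg⟩ else 0) =
      if g ∈ e.range then (f w : ℂ) else 0 := by
    intro g
    by_cases hg : g ∈ e.range
    · obtain ⟨c, rfl⟩ := hg
      have h1 : (e c)⁻¹ * e w * e c = e (c⁻¹ * w * c) := by rw [map_mul, map_mul, map_inv]
      rw [dif_pos (MonoidHom.mem_range.mpr ⟨_, h1.symm⟩),
        if_pos (MonoidHom.mem_range.mpr ⟨c, rfl⟩)]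
      rw [psi_eq L f _ h1.symm]
      exact isClassFunction_of_isGen hf.gen w c⁻¹ |> fun h => by simpa using h
    · rw [if_neg hg]
      by_cases hg' : g⁻¹ * e w * g ∈ e.range
      · rw [dif_pos hg']
        obtain ⟨w', hw'⟩ := id hg'
        rw [psi_eq L f hg' hw', hf.vanish w' fun hs => hg ?_, Int.cast_zero]
        exact inv_mem_iff.mp (L.ti (m := e w) ((L.mem w).mp hw.1)
          (fun h => hw.2 (L.inj (by rw [h, map_one])))
          (by rw [inv_inv, ← hw']; exact (L.mem w').mp hs.1))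
      · rw [dif_neg hg']
  rw [F, indFun_apply]
  simp only [key]
  rw [← Finset.sum_filter, Finset.sum_const, nsmul_eq_mul, ← Fintype.card_subtype,
    ← Nat.card_eq_fintype_card, ← mul_assoc]
  erw [inv_mul_cancel₀ (subgroup_card_ne_zero e.range)]
  rw [one_mul]

theorem inner_F (L : Free e M) (f : W → ℤ) {χ : G → ℂ} (hχ : Cfsg.IsClassFunction G χ) :
    Cfsg.classInner (F L f) χ =
      (Nat.card W : ℂ)⁻¹ * ∑ w : W, (f w : ℂ) * conj (χ (e w)) := by
  rw [F, frobenius_reciprocity _ (psi L f) hχ, Cfsg.classInner,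
    ← Nat.card_congr (MonoidHom.ofInjective L.inj).toEquiv]
  refine congrArg _ ?_
  refine (Fintype.sum_equiv (MonoidHom.ofInjective L.inj).toEquiv _ _ fun w => ?_).symm
  exact (congrArg (· * conj (χ (e w))) (psi_eq L f (y := e w) ⟨w, rfl⟩ rfl)).symm

theorem inner_FF (L : Free e M) (hf : Good f) (hf' : Good f') :
    Cfsg.classInner (F L f) (F L f') =
      (Nat.card W : ℂ)⁻¹ * ((∑ w : W, f w * f' w : ℤ) : ℂ) := by
  rw [inner_F L f (isClassFunction_of_isGen (isGen_F L hf')), Int.cast_sum]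
  congr 1
  refine Finset.sum_congr rfl fun w _ => ?_
  by_cases hw : supp w
  · rw [F_supp L hf' hw, Int.cast_mul, map_intCast]
  · rw [hf.vanish w hw]; simp

theorem inner_F_one (L : Free e M) (f : W → ℤ) :
    Cfsg.classInner (F L f) (oneChar G : G → ℂ) =
      (Nat.card W : ℂ)⁻¹ * ((∑ w : W, f w : ℤ) : ℂ) := by
  rw [inner_F L f (isClassFunction_irr _)]
  simp [oneChar_apply]

/-- The coefficients of the induced functions. -/
theorem exists_data (L : Free e M) [Fintype (Cfsg.IrrCharacter G)] (hf : Good f) :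
    ∃ c : Cfsg.IrrCharacter G → ℤ,
      (∀ χ : Cfsg.IrrCharacter G, (c χ : ℂ) =
        (Nat.card W : ℂ)⁻¹ * ∑ w : W, (f w : ℂ) * conj ((χ : G → ℂ) (e w))) ∧
      (∀ s : ℤ, ∑ w : W, f w = s * Nat.card W → c (oneChar G) = s) ∧
      (∀ n : ℤ, ∑ w : W, f w * f w = n * Nat.card W → ∑ χ, c χ * c χ = n) ∧
      (∀ d : Cfsg.IrrCharacter G → ℤ,
        (∀ χ : Cfsg.IrrCharacter G, (χ : G → ℂ) 1 = (d χ : ℂ)) → ∑ χ, c χ * d χ = 0) := by
  obtain ⟨c, hc, hsum, hn⟩ := exists_coeff (isGen_F L hf)
  have hW : (Nat.card W : ℂ) ≠ 0 := natCard_ne_zero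
  refine ⟨c, fun χ => ?_, fun s hs => ?_, fun n hn' => ?_, fun d hd => ?_⟩
  · rw [← hc χ, inner_F L f (isClassFunction_irr χ)]
  · have h := hc (oneChar G)
    rw [inner_F_one, hs] at h
    push_cast at h
    rw [mul_left_comm, inv_mul_cancel₀ hW, mul_one] at h
    exact_mod_cast h.symm
  · rw [inner_FF L hf hf, hn'] at hn
    push_cast at hn
    rw [mul_left_comm, inv_mul_cancel₀ hW, mul_one] at hn
    have hn2 : (n : ℂ) = ((∑ χ, c χ ^ 2 : ℤ) : ℂ) := by push_cast; exact hn
    rw [Int.cast_inj] at hn2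
    rw [hn2]
    simp [sq]
  · have h := congrFun hsum 1
    rw [F_one L hf] at h
    simp only [Finset.sum_apply, Pi.smul_apply, smul_eq_mul, hd] at h
    exact_mod_cast h.symm

/-- The products of the coefficients. -/
theorem sum_coeff_mul (L : Free e M) [Fintype (Cfsg.IrrCharacter G)] (hf : Good f) (hf' : Good f')
    {c c' : Cfsg.IrrCharacter G → ℤ}
    (hc : ∀ χ : Cfsg.IrrCharacter G, (c χ : ℂ) =
      (Nat.card W : ℂ)⁻¹ * ∑ w : W, (f w : ℂ) * conj ((χ : G → ℂ) (e w)))
    (hc' : ∀ χ : Cfsg.IrrCharacter G, (c' χ : ℂ) =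
      (Nat.card W : ℂ)⁻¹ * ∑ w : W, (f' w : ℂ) * conj ((χ : G → ℂ) (e w)))
    (n : ℤ) (hn : ∑ w : W, f w * f' w = n * Nat.card W) : ∑ χ, c χ * c' χ = n := by
  have hW : (Nat.card W : ℂ) ≠ 0 := natCard_ne_zero
  have h := inner_FF L hf hf'
  rw [classInner_eq_sum (isGen_F L hf), hn] at h
  simp only [inner_F L _ (isClassFunction_irr _), ← hc, ← hc', map_intCast] at h
  push_cast at h
  rw [mul_left_comm, inv_mul_cancel₀ hW, mul_one] at h
  exact_mod_cast h

end Cfsg.Agent.Lib.ThreeFree.Generic
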