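import Cfsg.Agent.Lib.ThreeFree.Models
import Cfsg.Agent.Lib.ThreeNine.Setup
import Mathlib.GroupTheory.Transfer

/-!
# Identification of the normaliser with one of the models
-/

set_option autoImplicit false

namespace Cfsg.Agent.Lib.ThreeFree.Setup

open Generic Models
open scoped Classical

universe u

theorem z3_cases : ∀ y : ZMod 3, y ≠ 0 → y = 1 ∨ y = 2 := by decide

theorem z2_cases : ∀ k : ZMod 2, k = 0 ∨ k = 1 := by decide

theorem z2_one_ne : (1 : ZMod 2) ≠ 0 := by decide

theorem z3_sq : ∀ z : ZMod 3, z * z + 1 ≠ 0 := by decide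

theorem act2_eq : ∀ (k : ZMod 2) (p : A), act2 (.ofAdd k) p = if k = 0 then p else p⁻¹ := by
  decide +kernel

variable {G : Type u} [Group G] {a b : G}

/-- The map from the elementary group given by two commuting elements. -/
def pairHom (ha : a ^ 3 = 1) (hb : b ^ 3 = 1) (hab : Commute a b) : A →* G where
  toFun p := a ^ p.toAdd.1.val * b ^ p.toAdd.2.val
  map_one' := by simp
  map_mul' p q := by
    rw [toAdd_mul, Prod.fst_add, Prod.snd_add, ThreeNine.Setup.pow_val_add ha,
      ThreeNine.Setup.pow_val_add hb]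
    simp only [mul_assoc]
    congr 1
    rw [← mul_assoc (a ^ q.toAdd.1.val), (hab.pow_pow q.toAdd.1.val p.toAdd.2.val).eq, mul_assoc]

theorem pairHom_injective (ha : a ^ 3 = 1) (hb : b ^ 3 = 1) (hab : Commute a b) (ha1 : a ≠ 1)
    (hnb : b ∉ Subgroup.zpowers a) : Function.Injective (pairHom ha hb hab) := by
  rw [← MonoidHom.ker_eq_bot_iff, Subgroup.eq_bot_iff_forall]
  intro p hp
  obtain ⟨⟨x, y⟩, rfl⟩ := Multiplicative.ofAdd.surjective p
  have hp' : a ^ x.val * b ^ y.val = 1 := hp
  have hy : y = 0 := by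
    by_contra hy
    apply hnb
    have hb' : b ^ y.val ∈ Subgroup.zpowers a := by
      rw [eq_inv_of_mul_eq_one_right hp']
      exact inv_mem (Subgroup.npow_mem_zpowers a _)
    rcases z3_cases y hy with rfl | rfl
    · simpa [show (1 : ZMod 3).val = 1 from rfl] using hb'
    · rw [show (2 : ZMod 3).val = 2 from rfl] at hb'
      have : b = (b ^ 2) ^ 2 := by rw [← pow_mul, pow_succ, hb, one_mul]
      rw [this]
      exact pow_mem hb' 2
  subst hy
  rw [show (0 : ZMod 3).val = 0 from rfl, pow_zero, mul_one] at hp'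
  have hx : x = 0 := by
    have hd := orderOf_dvd_of_pow_eq_one hp'
    rw [orderOf_eq_prime ha ha1] at hd
    have := ZMod.val_lt x
    exact (ZMod.val_eq_zero x).mp (by omega)
  subst hx
  rfl

/-- The map from a cyclic group. -/
def cycHom {n : ℕ} [NeZero n] {s : G} (hs : s ^ n = 1) : Multiplicative (ZMod n) →* G where
  toFun k := s ^ k.toAdd.val
  map_one' := by simp
  map_mul' k l := by
    rw [toAdd_mul, ← pow_add, ZMod.val_add]
    exact (pow_eq_pow_mod _ hs).symm

variable [Fintype G] (M : Sylow 3 G)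

/-- The image of the model. -/
theorem free_of_hom {W : Type} [Group W] [Fintype W] (e : W →* G) (hinj : Function.Injective e)
    (hle : e.range ≤ Subgroup.normalizer ((M : Subgroup G) : Set G))
    (hcardN : Nat.card (Subgroup.normalizer ((M : Subgroup G) : Set G)) = Nat.card W)
    (hmem : ∀ w : W, w * w * w = 1 → e w ∈ (M : Subgroup G))
    (hcount : Nat.card {w : W // w * w * w = 1} = 9) (hM9 : Nat.card (M : Subgroup G) = 9)
    (hcomm : ∀ x ∈ (M : Subgroup G), ∀ y ∈ (M : Subgroup G), x * y = y * x)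
    (hcent : ∀ m ∈ (M : Subgroup G), m ≠ 1 →
      Subgroup.centralizer ({m} : Set G) = (M : Subgroup G)) : Free e M := by
  refine ⟨hinj, Subgroup.eq_of_le_of_card_ge hle ?_, fun w => ⟨hmem w, fun h => ?_⟩, hcomm, hcent⟩
  · rw [hcardN, Nat.card_congr (MonoidHom.ofInjective hinj).toEquiv]
  · obtain ⟨⟨v, hv⟩, hvw⟩ := ((Nat.bijective_iff_injective_and_card
      (fun w : {w : W // w * w * w = 1} => (⟨e w, hmem w w.2⟩ : (M : Subgroup G)))).mpr
      ⟨fun v w hvw => Subtype.ext (hinj (congrArg Subtype.val hvw)), by rw [hcount, hM9]⟩).2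
      ⟨e w, h⟩
    rw [← hinj (congrArg Subtype.val hvw)]
    exact hv

/-- The two possible automisers. -/
theorem exists_model [IsSimpleGroup G] (hM9 : Nat.card (M : Subgroup G) = 9)
    (hMel : ∀ m ∈ (M : Subgroup G), m ^ 3 = 1)
    (hcomm : ∀ x ∈ (M : Subgroup G), ∀ y ∈ (M : Subgroup G), x * y = y * x)
    (hclasses : ∃ a b : G, orderOf a = 3 ∧ orderOf b = 3 ∧ ∀ g : G, g * a * g⁻¹ ≠ b)
    (hcent : ∀ m ∈ (M : Subgroup G), m ≠ 1 →
      Subgroup.centralizer ({m} : Set G) = (M : Subgroup G)) :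
    (∃ e : W4 →* G, Free e M) ∨ (∃ e : W2 →* G, Free e M) := by
  have h3 : Fact (Nat.Prime 3) := ⟨Nat.prime_three⟩
  have h2 : Fact (Nat.Prime 2) := ⟨Nat.prime_two⟩
  set N := Subgroup.normalizer ((M : Subgroup G) : Set G) with hN
  have hMN : (M : Subgroup G) ≤ N := Subgroup.le_normalizer
  set Q := (M : Subgroup G).subgroupOf N with hQ
  have : Q.Normal := Subgroup.normal_in_normalizer
  have hQ9 : Nat.card Q = 9 := by
    rw [hQ, Nat.card_congr (Subgroup.subgroupOfEquivOfLe hMN).toEquiv, hM9]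
  have hNcard : Nat.card N = 9 * Q.index := by rw [← Subgroup.card_mul_index Q, hQ9]
  have conjM : ∀ g ∈ N, ∀ m ∈ (M : Subgroup G), g * m * g⁻¹ ∈ (M : Subgroup G) :=
    fun g hg m hm => (Subgroup.mem_normalizer_iff.mp hg m).mp hm
  have fixed : ∀ g : G, ∀ m ∈ (M : Subgroup G), m ≠ 1 → g * m * g⁻¹ = m →
      g ∈ (M : Subgroup G) := fun g m hm hm1 h => by
    rw [← hcent m hm hm1, Subgroup.mem_centralizer_singleton_iff]
    exact mul_inv_eq_iff_eq_mul.mp h
  -- the number of cosets of the Sylow subgroup in its normaliser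
  obtain ⟨m₀, hm₀, hm₀1⟩ : ∃ m ∈ (M : Subgroup G), m ≠ 1 := by
    rcases (M : Subgroup G).bot_or_exists_ne_one with h | h
    · rw [h, Subgroup.card_bot] at hM9; omega
    · exact h
  have horb : ∀ T : Set {m : (M : Subgroup G) // m ≠ 1},
      T = Set.range (fun g : N => (⟨⟨(g : G) * m₀ * (g : G)⁻¹, conjM _ g.2 _ hm₀⟩,
        fun h => hm₀1 (conj_eq_one_iff.mp (congrArg Subtype.val h))⟩ :
          {m : (M : Subgroup G) // m ≠ 1})) → Nat.card T = Q.index := by
    rintro T rfl
    rw [Subgroup.index]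
    refine (Nat.card_congr (Equiv.ofBijective
      (Quotient.lift (fun g : N => (⟨_, g, rfl⟩ : Set.range (fun g : N =>
        (⟨⟨(g : G) * m₀ * (g : G)⁻¹, conjM _ g.2 _ hm₀⟩,
          fun h => hm₀1 (conj_eq_one_iff.mp (congrArg Subtype.val h))⟩ :
            {m : (M : Subgroup G) // m ≠ 1})))) ?_) ⟨?_, ?_⟩)).symm
    · intro g g' h
      have hgg : g⁻¹ * g' ∈ Q := QuotientGroup.leftRel_apply.mp h
      have hm := hcomm _ (Subgroup.mem_subgroupOf.mp hgg) _ hm₀
      refine Subtype.ext (Subtype.ext (Subtype.ext ?_))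
      show (g : G) * m₀ * (g : G)⁻¹ = (g' : G) * m₀ * (g' : G)⁻¹
      push_cast at hm
      calc (g : G) * m₀ * (g : G)⁻¹
          = (g : G) * (m₀ * ((g : G)⁻¹ * (g' : G))) * (g' : G)⁻¹ := by group
        _ = (g : G) * ((g : G)⁻¹ * (g' : G) * m₀) * (g' : G)⁻¹ := by rw [hm]
        _ = _ := by group
    · rintro ⟨g⟩ ⟨g'⟩ h
      have h' : (g : G) * m₀ * (g : G)⁻¹ = (g' : G) * m₀ * (g' : G)⁻¹ :=
        congrArg (fun z => ((z.1.1 : (M : Subgroup G)) : G)) h
      refine Quotient.sound (QuotientGroup.leftRel_apply.mpr (Subgroup.mem_subgroupOf.mpr ?_))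
      refine fixed _ m₀ hm₀ hm₀1 ?_
      push_cast
      calc (g : G)⁻¹ * (g' : G) * m₀ * ((g : G)⁻¹ * (g' : G))⁻¹
          = (g : G)⁻¹ * ((g' : G) * m₀ * (g' : G)⁻¹) * g := by group
        _ = (g : G)⁻¹ * ((g : G) * m₀ * (g : G)⁻¹) * g := by rw [h']
        _ = _ := by group
    · rintro ⟨x, g, hg⟩
      exact ⟨QuotientGroup.mk g, Subtype.ext hg⟩
  have h8 : Nat.card {m : (M : Subgroup G) // m ≠ 1} = 8 := by
    rw [Nat.card_eq_fintype_card, Fintype.card_subtype_compl, Fintype.card_subtype_eq,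
      ← Nat.card_eq_fintype_card, hM9]
  have hle8 : Q.index ≤ 8 := by
    rw [← horb _ rfl, ← h8]
    exact Nat.card_le_card_of_injective _ Subtype.val_injective
  have hne8 : Q.index ≠ 8 := by
    intro h
    obtain ⟨a, b, hao, hbo, hab⟩ := hclasses
    have key : ∀ z : G, orderOf z = 3 → ∃ c : G, c * m₀ * c⁻¹ = z := by
      intro z hz
      obtain ⟨g, hg⟩ := exists_conj_mem M (hz ▸ pow_orderOf_eq_one z)
      have hne : g * z * g⁻¹ ≠ 1 := fun h => by
        rw [conj_eq_one_iff.mp h, orderOf_one] at hz; omega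
      have hfull := Set.eq_univ_of_forall fun x => by_contra fun hx => by
        have := horb _ rfl
        rw [h, ← h8] at this
        exact absurd this (ne_of_lt (by
          rw [Nat.card_coe_set_eq, ← Set.ncard_univ]
          exact Set.ncard_lt_ncard (Set.ssubset_univ_iff.mpr fun hu => hx (hu ▸ Set.mem_univ x))))
      obtain ⟨c, hc⟩ := (hfull.symm ▸ Set.mem_univ (⟨⟨_, hg⟩, fun h => hne
        (congrArg Subtype.val h)⟩ : {m : (M : Subgroup G) // m ≠ 1}) :
        _ ∈ Set.range (fun g : N => (⟨⟨(g : G) * m₀ * (g : G)⁻¹, conjM _ g.2 _ hm₀⟩,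
          fun h => hm₀1 (conj_eq_one_iff.mp (congrArg Subtype.val h))⟩ :
            {m : (M : Subgroup G) // m ≠ 1})))
      have hc' : (c : G) * m₀ * (c : G)⁻¹ = g * z * g⁻¹ :=
        congrArg (fun t => ((t.1 : (M : Subgroup G)) : G)) hc
      refine ⟨g⁻¹ * (c : G), ?_⟩
      calc g⁻¹ * (c : G) * m₀ * (g⁻¹ * (c : G))⁻¹
          = g⁻¹ * ((c : G) * m₀ * (c : G)⁻¹) * g := by group
        _ = g⁻¹ * (g * z * g⁻¹) * g := by rw [hc']
        _ = z := by group
    obtain ⟨c, hc⟩ := key a hao
    obtain ⟨c', hc'⟩ := key b hbo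
    apply hab (c' * c⁻¹)
    rw [← hc, ← hc']
    group
  have h3' : ¬ 3 ∣ Q.index := by
    intro hd
    obtain ⟨x, hx⟩ := exists_prime_orderOf_dvd_card' 3 (G := N ⧸ Q) hd
    have h27 : 27 ∣ Nat.card G := dvd_trans (by rw [hNcard]; exact Nat.mul_dvd_mul_left 9 hd)
      (Subgroup.card_subgroup_dvd_card N)
    have hmul := M.card_eq_multiplicity
    rw [hM9] at hmul
    have := (Nat.Prime.pow_dvd_iff_le_factorization Nat.prime_three
      Nat.card_pos.ne' (k := 3)).mp h27
    have h2 : (Nat.card G).factorization 3 = 2 :=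
      Nat.pow_right_injective (by norm_num : 2 ≤ 3) (hmul.symm.trans (by norm_num))
    omega
  -- inversion by involutions
  have hinv : ∀ t ∈ N, t * t = 1 → t ≠ 1 → ∀ m ∈ (M : Subgroup G), t * m * t⁻¹ = m⁻¹ := by
    intro t ht htt ht1 m hm
    have hfix : t * (m * (t * m * t⁻¹)) * t⁻¹ = m * (t * m * t⁻¹) := by
      rw [hcomm _ hm _ (conjM t ht m hm)]
      have hti : t⁻¹ = t := inv_eq_of_mul_eq_one_right htt
      calc t * (t * m * t⁻¹ * m) * t⁻¹ = (t * t) * m * (t⁻¹ * m * t⁻¹) := by group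
        _ = m * (t * m * t⁻¹) := by rw [htt, one_mul, hti]
        _ = _ := (hcomm _ (conjM t ht m hm) _ hm).symm
    by_contra hne
    have hne1 : m * (t * m * t⁻¹) ≠ 1 := fun h => hne (eq_inv_of_mul_eq_one_right h)
    have htM := fixed t _ (mul_mem hm (conjM t ht m hm)) hne1 hfix
    have h3t := hMel t htM
    rw [pow_succ, pow_two, htt, one_mul] at h3t
    exact ht1 h3t
  have hnot1 : Q.index ≠ 1 := by
    intro h
    have hNM : N ≤ Subgroup.centralizer ((M : Subgroup G) : Set G) := by
      intro g hg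
      have hgQ : (⟨g, hg⟩ : N) ∈ Q := (Subgroup.index_eq_one.mp h) ▸ Subgroup.mem_top _
      exact Subgroup.mem_centralizer_iff.mpr fun y hy =>
        hcomm y hy g (Subgroup.mem_subgroupOf.mp hgQ)
    have hc := MonoidHom.ker_transferSylow_isComplement' M hNM
    obtain ⟨a, b, hao, -, hab⟩ := hclasses
    rcases (inferInstance : (MonoidHom.transferSylow M hNM).ker.Normal).eq_bot_or_eq_top with
      hk | hk
    · rw [hk] at hc
      have htop : (M : Subgroup G) = ⊤ := Subgroup.isComplement'_bot_left.mp hc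
      rcases (show (Subgroup.zpowers a).Normal from ⟨fun x hx g => by
        rw [mul_inv_eq_iff_eq_mul.mpr (hcomm g (htop ▸ Subgroup.mem_top g) x
          (htop ▸ Subgroup.mem_top x))]; exact hx⟩).eq_bot_or_eq_top with h' | h'
      · rw [Subgroup.zpowers_eq_bot] at h'
        rw [h', orderOf_one] at hao; omega
      · have := Nat.card_zpowers a
        rw [h', Subgroup.card_top, hao] at this
        rw [htop, Subgroup.card_top, this] at hM9
        omega
    · rw [hk] at hc
      have := Subgroup.isComplement'_top_left.mp hc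
      rw [this, Subgroup.card_bot] at hM9
      omega
  have h24 : Q.index = 2 ∨ Q.index = 4 := by
    have hne5 : ∀ p : ℕ, p.Prime → (p = 5 ∨ p = 7) → ¬ p ∣ Q.index := by
      intro p hp hp57 hd
      have : Fact p.Prime := ⟨hp⟩
      obtain ⟨x, hx⟩ := exists_prime_orderOf_dvd_card' p
        (G := N) (hNcard ▸ dvd_mul_of_dvd_right hd 9)
      let act : ↥(M : Subgroup G) → ↥(M : Subgroup G) :=
        fun m => ⟨(x : G) * m * (x : G)⁻¹, conjM _ x.2 _ m.2⟩
      have hxp : (x : G) ^ p = 1 := by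
        rw [← hx, ← Subgroup.orderOf_coe, pow_orderOf_eq_one]
      obtain ⟨r, hr⟩ : ∃ r : Equiv.Perm {m : (M : Subgroup G) // m ≠ 1},
          ∀ m, ((r m).1 : G) = (x : G) * m.1 * (x : G)⁻¹ := by
        refine ⟨Equiv.ofBijective (fun m => ⟨act m.1, fun h => m.2 (Subtype.ext
          (conj_eq_one_iff.mp (congrArg Subtype.val h)))⟩)
          (Finite.injective_iff_bijective.mp fun m m' h => ?_), fun m => rfl⟩
        exact Subtype.ext (Subtype.ext (mul_left_cancel (mul_right_cancel
          (congrArg (fun z => ((z.1 : (M : Subgroup G)) : G)) h))))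
      have hpow : ∀ (n : ℕ) m, (((r ^ n) m).1 : G) = (x : G) ^ n * m.1 * ((x : G) ^ n)⁻¹ := by
        intro n
        induction n with
        | zero => intro m; simp
        | succ n ih =>
          intro m
          rw [pow_succ', Equiv.Perm.mul_apply, hr, ih, pow_succ']
          group
      have hrp : r ^ p = 1 := Equiv.ext fun m => Subtype.ext (Subtype.ext (by
        rw [hpow, hxp]; simp))
      -- a permutation of prime order `5` or `7` of eight points fixes a point
      obtain ⟨m, hm⟩ : ∃ m, r m = m := by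
        have hmod := Equiv.Perm.exists_fixed_point_of_prime (p := p) (n := 1) (α :=
          {m : (M : Subgroup G) // m ≠ 1}) (σ := r) (by
            rw [← Nat.card_eq_fintype_card, h8]
            rcases hp57 with rfl | rfl <;> norm_num) (by rw [pow_one]; exact hrp)
        exact hmod
      have hxM := fixed (x : G) (m.1 : G) m.1.2 (fun h => m.2 (Subtype.ext h))
        ((hr m).symm.trans (by rw [hm]))
      have h9 : p ∣ 9 := by
        rw [← hx, ← hM9, ← Subgroup.orderOf_coe, ← Subgroup.orderOf_mk _ hxM]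
        exact orderOf_dvd_natCard _
      rcases hp57 with rfl | rfl <;> norm_num at h9
    have h5 := hne5 5 Nat.prime_five (Or.inl rfl)
    have h7 := hne5 7 (by norm_num) (Or.inr rfl)
    have hpos : Q.index ≠ 0 := Subgroup.index_ne_zero_of_finite
    omega
  rcases h24 with hk | hk
  · -- complement of order two
    right
    obtain ⟨t, ht⟩ := exists_prime_orderOf_dvd_card' 2 (G := N) (by rw [hNcard, hk]; norm_num)
    have ht1 : (t : G) ≠ 1 := fun h => by
      rw [← Subgroup.orderOf_coe, h, orderOf_one] at ht; omega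
    have htt : (t : G) * t = 1 := by
      rw [← pow_two, ← ht, ← Subgroup.orderOf_coe, pow_orderOf_eq_one]
    obtain ⟨b, hb, hnb⟩ : ∃ b ∈ (M : Subgroup G), b ∉ Subgroup.zpowers m₀ := by
      by_contra h
      push Not at h
      have hle := Subgroup.card_le_of_le (show (M : Subgroup G) ≤ Subgroup.zpowers m₀ from h)
      rw [Nat.card_zpowers, orderOf_eq_prime (hMel _ hm₀) hm₀1, hM9] at hle
      omega
    let fa := pairHom (hMel _ hm₀) (hMel _ hb) (hcomm _ hm₀ _ hb)
    have faM : ∀ p, fa p ∈ (M : Subgroup G) := fun p => mul_mem (pow_mem hm₀ _) (pow_mem hb _)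
    let fs := cycHom (n := 2) (s := (t : G)) (by rw [pow_two]; exact htt)
    have compat : ∀ k, fa.comp (act2 k).toMonoidHom = (MulAut.conj (fs k)).toMonoidHom.comp fa := by
      intro k
      refine MonoidHom.ext fun p => ?_
      obtain ⟨k, rfl⟩ := Multiplicative.ofAdd.surjective k
      show fa (act2 (.ofAdd k) p) = fs (.ofAdd k) * fa p * (fs (.ofAdd k))⁻¹
      rw [act2_eq]
      rcases z2_cases k with rfl | rfl
      · rw [if_pos rfl, show (.ofAdd (0 : ZMod 2) : Multiplicative (ZMod 2)) = 1 from rfl, map_one]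
        group
      · rw [if_neg z2_one_ne, map_inv]
        show (fa p)⁻¹ = (t : G) ^ 1 * fa p * ((t : G) ^ 1)⁻¹
        rw [pow_one, hinv _ t.2 htt ht1 _ (faM p)]
    refine ⟨SemidirectProduct.lift fa fs compat, free_of_hom M _ ?_ ?_ ?_ ?_ ?_ hM9 hcomm hcent⟩
    · rw [← MonoidHom.ker_eq_bot_iff, Subgroup.eq_bot_iff_forall]
      rintro ⟨p, k⟩ hp
      have hp' : fa p * fs k = 1 := hp
      have hk' : k = 1 := by
        obtain ⟨k, rfl⟩ := Multiplicative.ofAdd.surjective k
        rcases z2_cases k with rfl | rfl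
        · rfl
        · exfalso
          have htM : (t : G) ∈ (M : Subgroup G) := by
            have : (t : G) = (fa p)⁻¹ := by
              rw [← eq_inv_of_mul_eq_one_right hp']; exact (pow_one _).symm
            rw [this]; exact inv_mem (faM p)
          have h3t := hMel _ htM
          rw [pow_succ, pow_two, htt, one_mul] at h3t
          exact ht1 h3t
      subst hk'
      rw [map_one, mul_one] at hp'
      rw [pairHom_injective (hMel _ hm₀) (hMel _ hb) (hcomm _ hm₀ _ hb) hm₀1 hnb
        (hp'.trans (map_one fa).symm)]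
      rfl
    · rintro _ ⟨⟨p, k⟩, rfl⟩
      show fa p * fs k ∈ N
      exact mul_mem (hMN (faM p)) (pow_mem t.2 _)
    · rw [hNcard, hk, Nat.card_eq_fintype_card]
      decide +kernel
    · rintro ⟨p, k⟩ h
      have hk1 : k = 1 := (facts2.2.2.2.2.2.2.2.1 ⟨p, k⟩).mp h
      subst hk1
      show fa p * fs 1 ∈ (M : Subgroup G)
      rw [map_one, mul_one]
      exact faM p
    · rw [Nat.card_eq_fintype_card, Fintype.card_subtype]
      decide +kernel
  · -- complement of order four
    left
    obtain ⟨T⟩ : Nonempty (Sylow 2 N) := inferInstance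
    have hT : Nat.card (T : Subgroup N) = 4 := by
      rw [T.card_eq_multiplicity, hNcard, hk]
      have : (36 : ℕ).factorization 2 = 2 := by
        rw [show (36 : ℕ) = 2 ^ 2 * 9 from rfl, Nat.factorization_mul (by norm_num) (by norm_num),
          Finsupp.coe_add, Pi.add_apply, Nat.Prime.factorization_pow Nat.prime_two,
          Finsupp.single_eq_same, Nat.factorization_eq_zero_of_not_dvd (by norm_num : ¬ 2 ∣ 9)]
      rw [show 9 * 4 = 36 from rfl, this]; norm_num
    obtain ⟨s, hs4, hs2⟩ : ∃ s : N, (s : G) ^ 4 = 1 ∧ (s : G) ^ 2 ≠ 1 := by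
      by_contra hcon
      push Not at hcon
      have hsq : ∀ z : (T : Subgroup N), ((z : N) : G) * (z : N) = 1 := fun z => by
        rw [← pow_two]
        refine hcon z ?_
        have : z ^ 4 = 1 := by rw [← hT]; exact pow_card_eq_one'
        exact congrArg (fun y : (T : Subgroup N) => ((y : N) : G)) this
      have honly : ∀ y z : (T : Subgroup N), y ≠ 1 → z ≠ 1 → y = z := by
        intro y z hy hz
        have hy1 : ((y : N) : G) ≠ 1 := fun h => hy (Subtype.ext (Subtype.ext h))
        have hz1 : ((z : N) : G) ≠ 1 := fun h => hz (Subtype.ext (Subtype.ext h))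
        have e1 := hinv _ (y : N).2 (hsq y) hy1 _ hm₀
        have e2 := hinv _ (z : N).2 (hsq z) hz1 _ hm₀
        have hmem := fixed (((y : N) : G)⁻¹ * (z : N)) m₀ hm₀ hm₀1 (by
          calc ((y : N) : G)⁻¹ * (z : N) * m₀ * (((y : N) : G)⁻¹ * (z : N))⁻¹
              = ((y : N) : G)⁻¹ * (((z : N) : G) * m₀ * ((z : N) : G)⁻¹) * (y : N) := by group
            _ = ((y : N) : G)⁻¹ * (((y : N) : G) * m₀ * ((y : N) : G)⁻¹) * (y : N) := by rw [e2, e1]
            _ = m₀ := by group)
        have h3 := hMel _ hmem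
        have h2 := hsq (y⁻¹ * z)
        push_cast at h2
        rw [pow_succ, pow_two, h2, one_mul] at h3
        exact Subtype.ext (Subtype.ext (inv_mul_eq_one.mp h3))
      have : Nat.card (T : Subgroup N) ≤ 2 := by
        have hinj : Function.Injective fun z : (T : Subgroup N) => decide (z = 1) := by
          intro y z h
          by_cases hy : y = 1 <;> by_cases hz : z = 1 <;>
            simp only [hy, hz, decide_true, decide_false, Bool.true_eq_false,
              Bool.false_eq_true] at h ⊢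
          exact honly y z hy hz
        simpa using Nat.card_le_card_of_injective _ hinj
      omega
    have hinv2 : ∀ m ∈ (M : Subgroup G), (s : G) ^ 2 * m * ((s : G) ^ 2)⁻¹ = m⁻¹ :=
      hinv _ (pow_mem s.2 2) (by rw [← pow_add]; exact hs4) hs2
    set b := (s : G) * m₀ * (s : G)⁻¹ with hbdef
    have hb : b ∈ (M : Subgroup G) := conjM _ s.2 _ hm₀
    have hsb : (s : G) * b * (s : G)⁻¹ = m₀⁻¹ := by
      rw [hbdef, ← hinv2 m₀ hm₀, pow_two]; group
    have hnb : b ∉ Subgroup.zpowers m₀ := by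
      intro h
      obtain ⟨i, hi⟩ := Subgroup.mem_zpowers_iff.mp h
      have h1 : (s : G) * b * (s : G)⁻¹ = b ^ i := by
        nth_rewrite 1 [← hi]
        rw [← conj_zpow, ← hbdef]
      rw [hsb, ← hi, ← zpow_mul] at h1
      have hz : m₀ ^ (i * i + 1) = 1 := by rw [zpow_add, ← h1, zpow_one, inv_mul_cancel]
      have hd := orderOf_dvd_iff_zpow_eq_one.mpr hz
      rw [orderOf_eq_prime (hMel _ hm₀) hm₀1] at hd
      have hzm : ((i * i + 1 : ℤ) : ZMod 3) = 0 := (ZMod.intCast_zmod_eq_zero_iff_dvd _ 3).mpr hd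
      push_cast at hzm
      exact z3_sq _ hzm
    let fa := pairHom (hMel _ hm₀) (hMel _ hb) (hcomm _ hm₀ _ hb)
    have faM : ∀ p, fa p ∈ (M : Subgroup G) := fun p => mul_mem (pow_mem hm₀ _) (pow_mem hb _)
    let fs := cycHom (n := 4) (s := (s : G)) hs4
    have hrot : ∀ p : A, fa (rotA p) = (s : G) * fa p * (s : G)⁻¹ := by
      intro p
      obtain ⟨⟨x, y⟩, rfl⟩ := Multiplicative.ofAdd.surjective p
      show m₀ ^ (-y).val * b ^ x.val = (s : G) * (m₀ ^ x.val * b ^ y.val) * (s : G)⁻¹
      have hneg : m₀ ^ (-y).val = (m₀ ^ y.val)⁻¹ := eq_inv_of_mul_eq_one_left (by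
        rw [← ThreeNine.Setup.pow_val_add (hMel _ hm₀), neg_add_cancel]; simp)
      rw [hneg, show (s : G) * (m₀ ^ x.val * b ^ y.val) * (s : G)⁻¹ =
          ((s : G) * m₀ ^ x.val * (s : G)⁻¹) * ((s : G) * b ^ y.val * (s : G)⁻¹) by group,
        ← conj_pow, ← conj_pow, hsb, ← hbdef, inv_pow]
      exact hcomm _ (inv_mem (pow_mem hm₀ _)) _ (pow_mem hb _)
    have compat : ∀ k, fa.comp (act4 k).toMonoidHom = (MulAut.conj (fs k)).toMonoidHom.comp fa := by
      intro k
      refine MonoidHom.ext fun p => ?_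
      show fa ((rotA ^ k.toAdd.val) p) = (s : G) ^ k.toAdd.val * fa p * ((s : G) ^ k.toAdd.val)⁻¹
      induction k.toAdd.val generalizing p with
      | zero => simp
      | succ n ih =>
        rw [pow_succ, MulAut.mul_apply, ih, hrot, pow_succ]
        group
    refine ⟨SemidirectProduct.lift fa fs compat, free_of_hom M _ ?_ ?_ ?_ ?_ ?_ hM9 hcomm hcent⟩
    · rw [← MonoidHom.ker_eq_bot_iff, Subgroup.eq_bot_iff_forall]
      rintro ⟨p, k⟩ hp
      have hp' : fa p * fs k = 1 := hp
      have hk' : k = 1 := by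
        have hM : (s : G) ^ k.toAdd.val ∈ (M : Subgroup G) := by
          rw [show (s : G) ^ k.toAdd.val = (fa p)⁻¹ from eq_inv_of_mul_eq_one_right hp']
          exact inv_mem (faM p)
        have h3p := hMel _ hM
        have h4p : ((s : G) ^ k.toAdd.val) ^ 4 = 1 := by
          rw [← pow_mul, mul_comm, pow_mul, hs4, one_pow]
        rw [pow_succ, h3p, one_mul] at h4p
        have hlt := ZMod.val_lt k.toAdd
        have hord : orderOf (s : G) = 4 := orderOf_eq_prime_pow (p := 2) (n := 1)
          (by rw [pow_one]; exact hs2) hs4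
        have hd := orderOf_dvd_of_pow_eq_one h4p
        rw [hord] at hd
        have h0 : k.toAdd.val = 0 := by omega
        exact toAdd_eq_zero.mp ((ZMod.val_eq_zero _).mp h0)
      subst hk'
      rw [map_one, mul_one] at hp'
      rw [pairHom_injective (hMel _ hm₀) (hMel _ hb) (hcomm _ hm₀ _ hb) hm₀1 hnb
        (hp'.trans (map_one fa).symm)]
      rfl
    · rintro _ ⟨⟨p, k⟩, rfl⟩
      show fa p * fs k ∈ N
      exact mul_mem (hMN (faM p)) (pow_mem s.2 _)
    · rw [hNcard, hk, Nat.card_eq_fintype_card]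
      decide +kernel
    · rintro ⟨p, k⟩ h
      have hk1 : k = 1 := (facts4.2.2.2.2.2.2.2.2.2.2.1 ⟨p, k⟩).mp h
      subst hk1
      show fa p * fs 1 ∈ (M : Subgroup G)
      rw [map_one, mul_one]
      exact faM p
    · rw [Nat.card_eq_fintype_card, Fintype.card_subtype]
      decide +kernel

end Cfsg.Agent.Lib.ThreeFree.Setup
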