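import Cfsg.Agent.Lib.ThreeFree.Cases
import Cfsg.Agent.Lib.ThreeFree.Setup
import Cfsg.Agent.Lib.Characters.Kernel
import Cfsg.Agent.Lib.Characters.Linear
import Cfsg.Agent.S0496
import Cfsg.Agent.S0497

/-!
# A simple group with a Sylow subgroup of order nine centralising no other element
-/

set_option autoImplicit false

namespace Cfsg.Agent.Lib.ThreeFree.Main

open Generic Models Cfsg.Agent.Lib.Induced.Basic Cfsg.Agent.Lib.Characters.Basic
  Cfsg.Agent.Lib.Characters.Complete
open scoped ComplexConjugate Classical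

universe u

variable {G : Type u} [Group G] [Fintype G] {M : Sylow 3 G}

theorem card_ge [IsSimpleGroup G] (hM9 : Nat.card (M : Subgroup G) = 9)
    (hcomm : ¬ IsMulCommutative G) : 360 ≤ Nat.card G := by
  have h9 : 9 ∣ Nat.card G := hM9 ▸ Subgroup.card_subgroup_dvd_card (M : Subgroup G)
  by_contra h
  rcases S0496.result hcomm (by omega) with h' | h' | h' | h' | h' | h' <;> omega

/-- No such group has an automiser of order two. -/
theorem false_two {e : W2 →* G} (L : Free e M) (hM9 : Nat.card (M : Subgroup G) = 9)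
    (hg : 81 < Nat.card G) : False := by
  letI := Fintype.ofFinite (Cfsg.IrrCharacter G)
  obtain ⟨hu, hu01, hu01', hc1, hc2, hval, hcard, -, hs1, hs2, hs3⟩ := facts2
  have hW : Nat.card W2 = 18 := by rw [Nat.card_eq_fintype_card]; decide +kernel
  choose co hco hone hnorm hdeg using fun j => exists_data L (good_tline j)
  set deg : Cfsg.IrrCharacter G → ℤ := fun χ => (Cfsg.charDegree (χ : G → ℂ) : ℤ) with hdef
  have hdegC : ∀ χ : Cfsg.IrrCharacter G, (χ : G → ℂ) 1 = (deg χ : ℂ) := fun χ => by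
    rw [(H80.ClassMult.deg_spec χ).2, hdef]
    simp
  have hdpos : ∀ χ, 0 < deg χ := fun χ => by
    simp only [hdef]; exact_mod_cast (H80.ClassMult.deg_spec χ).1
  have hdo : deg (oneChar G) = 1 := by
    have h := hdegC (oneChar G)
    rw [oneChar_apply] at h
    exact_mod_cast h.symm
  let a : Fin 4 → Cfsg.IrrCharacter G → ℤ :=
    fun j χ => co 0 χ + co 1 χ + co 2 χ + co 3 χ - 3 * co j χ
  have hx : ∀ j (χ : Cfsg.IrrCharacter G), (χ : G → ℂ) (e (uu j)) = (a j χ : ℂ) := by
    intro j χ
    have hval' : ∀ i, (co i χ : ℂ) = (3 : ℂ)⁻¹ * ∑ l : Fin 4,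
        (if l = i then 0 else conj ((χ : G → ℂ) (e (uu l)))) := by
      intro i
      rw [hco i χ, hW]
      have h1 : ∀ w : W2, (tline i w : ℂ) * conj ((χ : G → ℂ) (e w)) = ∑ l : Fin 4,
          if conjW (uu l) w then (if l = i then (0 : ℂ) else 3 * conj ((χ : G → ℂ) (e (uu l))))
          else 0 := by
        intro w
        rw [hval i w, Int.cast_sum, Finset.sum_mul]
        refine Finset.sum_congr rfl fun l _ => ?_
        split_ifs with h h'
        · simp
        · rw [classFunction_apply_of_isConj (isClassFunction_irr χ) (isConj_of_conjW e h)]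
          push_cast; ring
        · simp
      simp only [h1]
      rw [Finset.sum_comm, Finset.mul_sum, Finset.mul_sum]
      refine Finset.sum_congr rfl fun l _ => ?_
      rw [← Finset.sum_filter, Finset.sum_const, hcard l, nsmul_eq_mul]
      split_ifs <;> push_cast <;> ring
    have h0 := hval' 0
    have h1 := hval' 1
    have h2 := hval' 2
    have h3 := hval' 3
    simp only [Fin.sum_univ_four] at h0 h1 h2 h3
    norm_num [Fin.ext_iff] at h0 h1 h2 h3
    have h : conj ((χ : G → ℂ) (e (uu j))) = (a j χ : ℂ) := by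
      simp only [a]
      push_cast
      fin_cases j <;> simp only [Fin.zero_eta, Fin.mk_one, Fin.reduceFinMk, h0, h1, h2, h3] <;> ring
    have h' := congrArg conj h
    rw [Complex.conj_conj, map_intCast] at h'
    exact h'
  have e1 := L.structure_constant hM9 (hu 0).1 (hu 0).2 (hu 0).1 (hu 0).2 (hu 1).1 (hu 1).2
    (fun _ => hu01) 0 hc1
  have e2 := L.structure_constant hM9 (hu 0).1 (hu 0).2 (hu 1).1 (hu 1).2 (hu 2).1 (hu 2).2
    (fun h => absurd h hu01') 1 hc2
  simp only [hx, hdegC, map_intCast] at e1 e2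
  refine Cases.false_two_data (oneChar G) deg co (Nat.card G : ℤ) hdpos hdo
    (fun i => hone i 1 (by rw [hW]; exact hs1 i)) (fun i => hnorm i 3 (by rw [hW]; exact hs2 i))
    (fun i j hij => sum_coeff_mul L (good_tline i) (good_tline j) (hco i) (hco j) 2
      (by rw [hW]; exact hs3 i j hij))
    (fun i => hdeg i deg hdegC) (by exact_mod_cast hg) a (fun _ _ => rfl) ?_ ?_
  · apply Rat.cast_injective (α := ℂ)
    push_cast at e1 ⊢
    simpa using e1
  · apply Rat.cast_injective (α := ℂ)
    push_cast at e2 ⊢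
    simpa using e2

/-- An automiser of order four forces the order. -/
theorem card_four [IsSimpleGroup G] {e : W4 →* G} (L : Free e M)
    (hM9 : Nat.card (M : Subgroup G) = 9) (hcomm : ¬ IsMulCommutative G) : Nat.card G = 360 := by
  letI := Fintype.ofFinite (Cfsg.IrrCharacter G)
  obtain ⟨hua, hua1, hub, hub1, hab, hc, hth, hde, h4a, h4b, -, hthree, t1, t2, d1, d2, td⟩ := facts4
  have hW : Nat.card W4 = 36 := by rw [Nat.card_eq_fintype_card]; decide +kernel
  obtain ⟨co, hco, hone, hnorm, hdeg⟩ := exists_data L good_theta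
  obtain ⟨cf, hcf, hone', hnorm', hdeg'⟩ := exists_data L good_delta
  set deg : Cfsg.IrrCharacter G → ℤ := fun χ => (Cfsg.charDegree (χ : G → ℂ) : ℤ) with hdef
  have hdegC : ∀ χ : Cfsg.IrrCharacter G, (χ : G → ℂ) 1 = (deg χ : ℂ) := fun χ => by
    rw [(H80.ClassMult.deg_spec χ).2, hdef]
    simp
  have hdpos : ∀ χ, 0 < deg χ := fun χ => by
    simp only [hdef]; exact_mod_cast (H80.ClassMult.deg_spec χ).1
  have hdo : deg (oneChar G) = 1 := by
    have h := hdegC (oneChar G)
    rw [oneChar_apply] at h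
    exact_mod_cast h.symm
  have hsum : ∀ (f : W4 → ℤ) (p q : ℤ),
      (∀ w, f w = (if conjW ua w then p else 0) + if conjW ub w then q else 0) →
      ∀ χ : Cfsg.IrrCharacter G, ∑ w : W4, (f w : ℂ) * conj ((χ : G → ℂ) (e w)) =
        4 * (p : ℂ) * conj ((χ : G → ℂ) (e ua)) + 4 * (q : ℂ) * conj ((χ : G → ℂ) (e ub)) := by
    intro f p q hf χ
    have h1 : ∀ w : W4, (f w : ℂ) * conj ((χ : G → ℂ) (e w)) =
        (if conjW ua w then (p : ℂ) * conj ((χ : G → ℂ) (e ua)) else 0) +
          if conjW ub w then (q : ℂ) * conj ((χ : G → ℂ) (e ub)) else 0 := by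
      intro w
      rw [hf w, Int.cast_add, add_mul]
      congr 1 <;> split_ifs with h <;>
        first
          | rw [classFunction_apply_of_isConj (isClassFunction_irr χ) (isConj_of_conjW e h)]
          | simp
    simp only [h1]
    rw [Finset.sum_add_distrib, ← Finset.sum_filter, ← Finset.sum_filter, Finset.sum_const,
      Finset.sum_const, h4a, h4b, nsmul_eq_mul, nsmul_eq_mul]
    push_cast; ring
  have hxa : ∀ χ : Cfsg.IrrCharacter G, (χ : G → ℂ) (e ua) = ((co χ + 2 * cf χ : ℤ) : ℂ) := by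
    intro χ
    have h : ((co χ + 2 * cf χ : ℤ) : ℂ) = conj ((χ : G → ℂ) (e ua)) := by
      push_cast
      rw [hco χ, hcf χ, hsum theta 3 6 hth χ, hsum delta 3 (-3) hde χ, hW]
      push_cast; ring
    have h2 := congrArg conj h
    rw [Complex.conj_conj, map_intCast] at h2
    exact h2.symm
  have hxb : ∀ χ : Cfsg.IrrCharacter G, (χ : G → ℂ) (e ub) = ((co χ - cf χ : ℤ) : ℂ) := by
    intro χ
    have h : ((co χ - cf χ : ℤ) : ℂ) = conj ((χ : G → ℂ) (e ub)) := by
      push_cast
      rw [hco χ, hcf χ, hsum theta 3 6 hth χ, hsum delta 3 (-3) hde χ, hW]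
      push_cast; ring
    have h2 := congrArg conj h
    rw [Complex.conj_conj, map_intCast] at h2
    exact h2.symm
  have heq := L.structure_constant hM9 hua hua1 hua hua1 hub hub1 (fun _ => hab) 2 hc
  simp only [hxa, hxb, hdegC, map_intCast] at heq
  have hlin : ∀ χ : Cfsg.IrrCharacter G, χ ≠ oneChar G → deg χ ≠ 1 := by
    intro χ hχ h1
    have h1' : (χ : G → ℂ) 1 = 1 := by rw [hdegC, h1]; simp
    have hmul := Characters.Linear.apply_mul_of_degree_one (isCharacter_irr χ) h1'
    by_cases hall : ∀ g, (χ : G → ℂ) g = (χ : G → ℂ) 1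
    · exact hχ (Subtype.ext (funext fun g => by rw [hall g, h1']; rfl))
    have hker := Characters.Kernel.charKer_eq_bot_of_simple (isCharacter_irr χ)
      (not_forall.mp hall).choose_spec
    apply hcomm
    refine ⟨⟨fun a b => ?_⟩⟩
    have hab : (χ : G → ℂ) ((a * b) * (b * a)⁻¹) = (χ : G → ℂ) 1 := by
      have hbb : (χ : G → ℂ) (a * b) = (χ : G → ℂ) (b * a) := by rw [hmul, hmul, mul_comm]
      rw [hmul, hbb, ← hmul, mul_inv_cancel]
    have hm : (a * b) * (b * a)⁻¹ ∈ Characters.Kernel.charKer (isCharacter_irr χ) :=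
      (Characters.Kernel.mem_charKer _ _).mpr hab
    rw [hker, Subgroup.mem_bot] at hm
    exact mul_inv_eq_one.mp hm
  have hcong : ∀ χ, (9 : ℤ) ∣ deg χ + 4 * (co χ + 2 * cf χ) + 4 * (co χ - cf χ) := by
    intro χ
    letI := Fintype.ofFinite (M : Subgroup G)
    obtain ⟨n, hn⟩ := H80.ClassMult.exists_sum_subgroup χ (M : Subgroup G)
    rw [hM9] at hn
    have hs : ∑ x : (M : Subgroup G), (χ : G → ℂ) x =
        ∑ w : W4, if w * w * w = 1 then (χ : G → ℂ) (e w) else 0 := by
      rw [← Finset.sum_filter]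
      refine (Finset.sum_bij (fun w hw => (⟨e w, (L.mem w).mp (Finset.mem_filter.mp hw).2⟩ :
        (M : Subgroup G))) (fun _ _ => Finset.mem_univ _)
        (fun a _ b _ h => L.inj (congrArg Subtype.val h)) ?_ fun _ _ => rfl).symm
      rintro ⟨x, hx⟩ -
      obtain ⟨w, rfl⟩ := L.M_le hx
      exact ⟨w, Finset.mem_filter.mpr ⟨Finset.mem_univ _, (L.mem w).mpr hx⟩, rfl⟩
    have hcl : ∀ u w : W4, conjW u w → (χ : G → ℂ) (e w) = (χ : G → ℂ) (e u) := fun u w h =>
      (classFunction_apply_of_isConj (isClassFunction_irr χ) (isConj_of_conjW e h)).symm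
    have hsplit : ∀ w : W4, (if w * w * w = 1 then (χ : G → ℂ) (e w) else 0) =
        (if w = 1 then (χ : G → ℂ) 1 else 0) + (if conjW ua w then (χ : G → ℂ) (e ua) else 0) +
        (if conjW ub w then (χ : G → ℂ) (e ub) else 0) := by
      intro w
      have h := hthree w
      by_cases h1 : w = 1
      · subst h1
        by_cases c1 : conjW ua 1 <;> by_cases c2 : conjW ub 1 <;> simp [c1, c2] at h ⊢
      by_cases h3 : w * w * w = 1 <;> by_cases c1 : conjW ua w <;>
        by_cases c2 : conjW ub w <;> simp [h1, h3, c1, c2] at h ⊢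
      · exact hcl _ _ c1
      · exact hcl _ _ c2
    simp only [hsplit, Finset.sum_add_distrib] at hs
    rw [Finset.sum_ite_eq' Finset.univ (1 : W4), ← Finset.sum_filter, ← Finset.sum_filter,
      Finset.sum_const, Finset.sum_const, h4a, h4b, hn, hxa, hxb, hdegC] at hs
    simp only [Finset.mem_univ, if_true, nsmul_eq_mul] at hs
    refine ⟨(n : ℤ), ?_⟩
    have h' : ((9 * (n : ℤ) : ℤ) : ℂ) =
        ((deg χ + 4 * (co χ + 2 * cf χ) + 4 * (co χ - cf χ) : ℤ) : ℂ) := by
      push_cast at hs ⊢
      linear_combination hs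
    exact (Int.cast_injective h').symm
  have key := Cases.order_four_data (oneChar G) deg co cf (Nat.card G : ℤ) hdpos hdo
    (hone 1 (by rw [hW]; exact t1)) (hone' 0 (by rw [hW]; exact d1))
    (hnorm 5 (by rw [hW]; exact t2)) (hnorm' 2 (by rw [hW]; exact d2))
    (sum_coeff_mul L good_theta good_delta hco hcf (-1) (by rw [hW]; exact td))
    (hdeg deg hdegC) (hdeg' deg hdegC) hlin (by exact_mod_cast card_ge hM9 hcomm)
    (by
      have h := finsum_degree_sq (G := G)
      rw [finsum_eq_sum_of_fintype] at h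
      simp only [hdegC, sq] at h
      exact le_of_eq (by exact_mod_cast h))
    _ _ (fun _ => rfl) (fun _ => rfl) hcong
    (by
      apply Rat.cast_injective (α := ℂ)
      push_cast at heq ⊢
      rw [heq]; norm_num)
  exact_mod_cast key

end Cfsg.Agent.Lib.ThreeFree.Main
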