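import Cfsg.Agent.Lib.ThreeFree.Generic
import Mathlib.GroupTheory.SemidirectProduct

/-!
# The two Frobenius models
-/

set_option autoImplicit false

namespace Cfsg.Agent.Lib.ThreeFree.Models

open Generic Cfsg.Agent.Lib.Induced

abbrev V := ZMod 3 × ZMod 3
abbrev A := Multiplicative V

def rotA : MulAut A where
  toFun a := .ofAdd (-a.toAdd.2, a.toAdd.1)
  invFun a := .ofAdd (a.toAdd.2, -a.toAdd.1)
  left_inv := by intro a; revert a; decide
  right_inv := by intro a; revert a; decide
  map_mul' := by intro a b; revert a b; decide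

def act4 : Multiplicative (ZMod 4) →* MulAut A where
  toFun k := rotA ^ k.toAdd.val
  map_one' := by simp
  map_mul' := by
    intro k l
    refine MulEquiv.ext fun a => ?_
    revert k l a
    decide +kernel

def act2 : Multiplicative (ZMod 2) →* MulAut A where
  toFun k := (rotA * rotA) ^ k.toAdd.val
  map_one' := by simp
  map_mul' := by
    intro k l
    refine MulEquiv.ext fun a => ?_
    revert k l a
    decide +kernel

abbrev W4 := A ⋊[act4] Multiplicative (ZMod 4)
abbrev W2 := A ⋊[act2] Multiplicative (ZMod 2)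

instance decEqW4 : DecidableEq W4 :=
  fun a b => decidable_of_iff _ SemidirectProduct.equivProd.injective.eq_iff

instance decEqW2 : DecidableEq W2 :=
  fun a b => decidable_of_iff _ SemidirectProduct.equivProd.injective.eq_iff

instance fintypeW4 : Fintype W4 := Fintype.ofEquiv _ SemidirectProduct.equivProd.symm
instance fintypeW2 : Fintype W2 := Fintype.ofEquiv _ SemidirectProduct.equivProd.symm

def mk4 (x y : ZMod 3) (k : ZMod 4) : W4 := ⟨.ofAdd (x, y), .ofAdd k⟩
def mk2 (x y : ZMod 3) (k : ZMod 2) : W2 := ⟨.ofAdd (x, y), .ofAdd k⟩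

section perm

variable {W : Type} [Group W] [Fintype W]

theorem isGen_perm (H : Subgroup W) [DecidablePred (· ∈ H)] (c : ℕ) (f : W → ℤ)
    (hH : (Finset.univ.filter (· ∈ H)).card = c)
    (hf : ∀ w : W, ((Finset.univ.filter fun x : W => x⁻¹ * w * x ∈ H).card : ℤ) = c * f w) :
    Cfsg.IsGeneralizedCharacter W (fun w => (f w : ℂ)) := by
  have hc : Nat.card H = c := by
    rw [← hH, Nat.card_eq_fintype_card, Fintype.card_subtype]
  have hc0 : (c : ℂ) ≠ 0 := by
    rw [← hc]
    exact Nat.cast_ne_zero.mpr Nat.card_pos.ne'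
  have h : Cfsg.indFun H (1 : H → ℂ) = fun w => (f w : ℂ) := by
    funext w
    rw [Induced.Basic.indFun_apply, hc]
    have h1 : (∑ x : W, if hx : x⁻¹ * w * x ∈ H then
        (1 : H → ℂ) ⟨x⁻¹ * w * x, hx⟩ else 0) = (c : ℂ) * (f w : ℂ) := by
      simp only [Pi.one_apply, dite_eq_ite, Finset.sum_boole]
      exact_mod_cast hf w
    rw [h1, inv_mul_cancel_left₀ hc0]
  rw [← h]
  exact Induced.Character.isGeneralizedCharacter_indFun H
    (Generalized.of_isCharacter Characters.Basic.isCharacter_one)

end perm

/-! ### The model with complement of order four -/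

/-- The class of `(1,0)`. -/
def axisP (p : V) : Bool := (p.1 = 0 || p.2 = 0) && p ≠ 0

def M4 : Subgroup W4 where
  carrier := {w | w.right = 1}
  one_mem' := by decide
  mul_mem' := by intro a b ha hb; revert ha hb; revert a b; decide +kernel
  inv_mem' := by intro a ha; revert ha; revert a; decide +kernel

def K4 : Subgroup W4 where
  carrier := {w | w.right.toAdd = 0 ∨ w.right.toAdd = 2}
  one_mem' := by decide
  mul_mem' := by intro a b ha hb; revert ha hb; revert a b; decide +kernel
  inv_mem' := by intro a ha; revert ha; revert a; decide +kernel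

def H4 : Subgroup W4 where
  carrier := {w | (w.right.toAdd = 0 ∨ w.right.toAdd = 2) ∧ w.left.toAdd.1 = 0}
  one_mem' := by decide
  mul_mem' := by intro a b ha hb; revert ha hb; revert a b; decide +kernel
  inv_mem' := by intro a ha; revert ha; revert a; decide +kernel

def D4 : Subgroup W4 where
  carrier := {w | (w.right.toAdd = 0 ∨ w.right.toAdd = 2) ∧ w.left.toAdd.1 = w.left.toAdd.2}
  one_mem' := by decide
  mul_mem' := by intro a b ha hb; revert ha hb; revert a b; decide +kernel
  inv_mem' := by intro a ha; revert ha; revert a; decide +kernel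

instance decM4 : DecidablePred (· ∈ M4) :=
  fun w => inferInstanceAs (Decidable (w.right = 1))
instance decK4 : DecidablePred (· ∈ K4) :=
  fun w => inferInstanceAs (Decidable (w.right.toAdd = 0 ∨ w.right.toAdd = 2))
instance decH4 : DecidablePred (· ∈ H4) :=
  fun w => inferInstanceAs
    (Decidable ((w.right.toAdd = 0 ∨ w.right.toAdd = 2) ∧ w.left.toAdd.1 = 0))
instance decD4 : DecidablePred (· ∈ D4) :=
  fun w => inferInstanceAs
    (Decidable ((w.right.toAdd = 0 ∨ w.right.toAdd = 2) ∧ w.left.toAdd.1 = w.left.toAdd.2))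

def pM4 (w : W4) : ℤ := if w.right = 1 then 4 else 0
def pK4 (w : W4) : ℤ := if w.right.toAdd = 0 ∨ w.right.toAdd = 2 then 2 else 0
def pH4 (w : W4) : ℤ :=
  if w.right = 1 then (if w.left.toAdd = 0 then 6 else if axisP w.left.toAdd then 3 else 0)
  else if w.right.toAdd = 2 then 2 else 0
def pD4 (w : W4) : ℤ :=
  if w.right = 1 then (if w.left.toAdd = 0 then 6 else if axisP w.left.toAdd then 0 else 3)
  else if w.right.toAdd = 2 then 2 else 0

/-- The first function: `3` and `6` on the two classes. -/
def theta (w : W4) : ℤ := pM4 w - pH4 w + pK4 w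

/-- The second function: `3` and `-3` on the two classes. -/
def delta (w : W4) : ℤ := pH4 w - pD4 w

theorem good_theta : Good theta where
  gen := by
    simp only [theta, Int.cast_add, Int.cast_sub]
    exact Generalized.isGen_add (Generalized.isGen_sub
      (isGen_perm M4 9 pM4 (by decide +kernel) (by decide +kernel))
      (isGen_perm H4 6 pH4 (by decide +kernel) (by decide +kernel)))
      (isGen_perm K4 18 pK4 (by decide +kernel) (by decide +kernel))
  vanish := by decide +kernel

theorem good_delta : Good delta where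
  gen := by
    simp only [delta, Int.cast_sub]
    exact Generalized.isGen_sub
      (isGen_perm H4 6 pH4 (by decide +kernel) (by decide +kernel))
      (isGen_perm D4 6 pD4 (by decide +kernel) (by decide +kernel))
  vanish := by decide +kernel

def ua : W4 := mk4 1 0 0
def ub : W4 := mk4 1 1 0

theorem facts4 :
    ua * ua * ua = 1 ∧ ua ≠ 1 ∧ ub * ub * ub = 1 ∧ ub ≠ 1 ∧
    ¬ conjW (ua * ua) ub ∧
    (Finset.univ.filter fun w : W4 => conjW ua w ∧ conjW ub (ua * w)).card = 2 ∧
    (∀ w : W4, theta w = (if conjW ua w then 3 else 0) + if conjW ub w then 6 else 0) ∧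
    (∀ w : W4, delta w = (if conjW ua w then 3 else 0) + if conjW ub w then -3 else 0) ∧
    (Finset.univ.filter fun w : W4 => conjW ua w).card = 4 ∧
    (Finset.univ.filter fun w : W4 => conjW ub w).card = 4 ∧
    (∀ w : W4, w * w * w = 1 ↔ w.right = 1) ∧
    (∀ w : W4, (if w * w * w = 1 then (1 : ℕ) else 0) =
      (if w = 1 then 1 else 0) + (if conjW ua w then 1 else 0) + if conjW ub w then 1 else 0) ∧
    ∑ w : W4, theta w = 1 * 36 ∧ ∑ w : W4, theta w * theta w = 5 * 36 ∧
    ∑ w : W4, delta w = 0 * 36 ∧ ∑ w : W4, delta w * delta w = 2 * 36 ∧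
    ∑ w : W4, theta w * delta w = -1 * 36 := by
  decide +kernel

/-! ### The model with complement of order two -/

def linev : Fin 4 → V := ![(1, 0), (0, 1), (1, 1), (1, 2)]

def onLine (j : Fin 4) (p : V) : Bool := p.1 * (linev j).2 = p.2 * (linev j).1

def M2 : Subgroup W2 where
  carrier := {w | w.right = 1}
  one_mem' := by decide
  mul_mem' := by intro a b ha hb; revert ha hb; revert a b; decide +kernel
  inv_mem' := by intro a ha; revert ha; revert a; decide +kernel

def S2 (j : Fin 4) : Subgroup W2 where
  carrier := {w | onLine j w.left.toAdd = true}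
  one_mem' := by revert j; decide +kernel
  mul_mem' := by intro a b ha hb; revert ha hb; revert a b; revert j; decide +kernel
  inv_mem' := by intro a ha; revert ha; revert a; revert j; decide +kernel

instance decM2 : DecidablePred (· ∈ M2) :=
  fun w => inferInstanceAs (Decidable (w.right = 1))
instance decS2 (j : Fin 4) : DecidablePred (· ∈ S2 j) :=
  fun w => inferInstanceAs (Decidable (onLine j w.left.toAdd = true))

def pM2 (w : W2) : ℤ := if w.right = 1 then 2 else 0
def pS2 (j : Fin 4) (w : W2) : ℤ :=
  if w.right = 1 then (if onLine j w.left.toAdd then 3 else 0) else 1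

/-- `0` on one of the four classes, `3` on the others. -/
def tline (j : Fin 4) (w : W2) : ℤ := pM2 w - pS2 j w + 1

theorem good_tline (j : Fin 4) : Good (tline j) where
  gen := by
    simp only [tline, Int.cast_add, Int.cast_sub, Int.cast_one]
    exact Generalized.isGen_add (Generalized.isGen_sub
      (isGen_perm M2 9 pM2 (by decide +kernel) (by decide +kernel))
      (isGen_perm (S2 j) 6 (pS2 j) (by revert j; decide +kernel) (by revert j; decide +kernel)))
      (by simpa using Generalized.isGen_const (G := W2) 1)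
  vanish := by revert j; decide +kernel

def uu (j : Fin 4) : W2 := mk2 (linev j).1 (linev j).2 0

theorem facts2 :
    (∀ j : Fin 4, uu j * uu j * uu j = 1 ∧ uu j ≠ 1) ∧
    ¬ conjW (uu 0 * uu 0) (uu 1) ∧ ¬ conjW (uu 0) (uu 1) ∧
    (Finset.univ.filter fun w : W2 => conjW (uu 0) w ∧ conjW (uu 1) (uu 0 * w)).card = 0 ∧
    (Finset.univ.filter fun w : W2 => conjW (uu 1) w ∧ conjW (uu 2) (uu 0 * w)).card = 1 ∧
    (∀ (j : Fin 4) (w : W2), tline j w = ∑ l : Fin 4,
      if conjW (uu l) w then (if l = j then 0 else 3) else 0) ∧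
    (∀ l : Fin 4, (Finset.univ.filter fun w : W2 => conjW (uu l) w).card = 2) ∧
    (∀ w : W2, w * w * w = 1 ↔ w.right = 1) ∧
    (∀ j : Fin 4, ∑ w : W2, tline j w = 1 * 18) ∧
    (∀ j : Fin 4, ∑ w : W2, tline j w * tline j w = 3 * 18) ∧
    (∀ i j : Fin 4, i ≠ j → ∑ w : W2, tline i w * tline j w = 2 * 18) := by
  decide +kernel

end Cfsg.Agent.Lib.ThreeFree.Models
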